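import Cfsg.Agent.Lib.PLocal.CoprimeQuad.Pair
import Cfsg.Agent.Lib.Solvable.PCore
import Cfsg.Agent.S5061

/-!
# Classes of root sets of a linear group with trivial `O_p`
-/

set_option autoImplicit false

namespace CfsgLib.PLocal.CoprimeQuad

open CfsgLib.PLocal.QPair
open CfsgLib.Trans3.Unipotent (isUnipotentOn_iff)

universe v

variable {p : ℕ} [hp : Fact p.Prime] {M : Type v} [AddCommGroup M] [Module (ZMod p) M]

local notation "GLk" => LinearMap.GeneralLinearGroup (ZMod p) M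
local notation "𝔈" => M →ₗ[ZMod p] M

theorem two_ne (h5 : 5 ≤ p) : (2 : ZMod p) ≠ 0 := by
  intro h
  have h' : ((2 : ℕ) : ZMod p) = 0 := by exact_mod_cast h
  rw [ZMod.natCast_eq_zero_iff] at h'
  have := Nat.le_of_dvd two_pos h'
  omega

theorem card_ne (h5 : 5 ≤ p) : Nat.card (ZMod p) ≠ 3 := by
  rw [Nat.card_zmod]; omega

theorem charP_end {a : 𝔈} (ha : a ≠ 0) : CharP 𝔈 p := by
  haveI : Nontrivial 𝔈 := ⟨⟨a, 0, ha⟩⟩
  exact charP_of_injective_algebraMap (algebraMap (ZMod p) 𝔈).injective p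

/-- A nilpotent translate of `1` has `p`-power order. -/
theorem pow_eq_one_of_isNilpotent {a : 𝔈} (ha : a ≠ 0) {g : GLk} {n : ℕ}
    (h : ((g : 𝔈) - 1) ^ n = 0) : g ^ p ^ n = 1 := by
  haveI := charP_end ha
  refine Units.ext ?_
  rw [Units.val_pow_eq_pow_val, Units.val_one, show (g : 𝔈) = 1 + ((g : 𝔈) - 1) by abel,
    add_pow_char_pow_of_commute (p := p) (n := n) (h := Commute.one_left ((g : 𝔈) - 1)), one_pow,
    pow_eq_zero_of_le (Nat.lt_pow_self hp.out.one_lt).le h, add_zero]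

variable {G : Subgroup (LinearMap.GeneralLinearGroup (ZMod p) M)}

section Rel

theorem image_rootSet {g : GLk} (hg : g ∈ Subgroup.normalizer (G : Set GLk)) (a : 𝔈) :
    conjE g '' rootSet G a = rootSet G (conjE g a) := by
  have key : ∀ {g : GLk}, g ∈ Subgroup.normalizer (G : Set GLk) → ∀ {a x : 𝔈}, x ∈ rootSet G a →
      conjE g x ∈ rootSet G (conjE g a) := by
    intro g hg a x hx
    refine ⟨conjE_isRoot hg hx.1, ?_, ?_⟩
    · rintro _ ⟨m, rfl⟩
      obtain ⟨w, hw⟩ := hx.2.1 (LinearMap.mem_range_self x (((g⁻¹ : GLk) : 𝔈) m))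
      refine ⟨(g : 𝔈) w, ?_⟩
      simp only [conjE, Module.End.mul_apply]
      rw [← hw, ← Module.End.mul_apply ((g⁻¹ : GLk) : 𝔈), Units.inv_mul, Module.End.one_apply]
    · intro m hm
      rw [conjE, LinearMap.mem_ker, Module.End.mul_apply, Module.End.mul_apply] at hm ⊢
      have : a (((g⁻¹ : GLk) : 𝔈) m) = 0 := by
        have h := congrArg ((g⁻¹ : GLk) : 𝔈) hm
        rwa [← Module.End.mul_apply, Units.inv_mul, Module.End.one_apply, map_zero] at h
      rw [LinearMap.mem_ker.1 (hx.2.2 this), map_zero]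
  refine Set.Subset.antisymm (Set.image_subset_iff.2 fun x hx => key hg hx) fun x hx => ?_
  refine ⟨conjE g⁻¹ x, ?_, by rw [conjE_conjE, mul_inv_cancel, conjE_one]⟩
  have := key (inv_mem hg) hx
  rwa [conjE_conjE, inv_mul_cancel, conjE_one] at this

theorem isMin_conjE {g : GLk} (hg : g ∈ Subgroup.normalizer (G : Set GLk)) {a : 𝔈}
    (ha : IsMin G a) : IsMin G (conjE g a) := by
  refine ⟨conjE_isRoot hg ha.1, fun h => ha.2.1 (conjE_injective g (h.trans (conjE_zero g).symm)),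
    fun b hb hb0 => ?_⟩
  have hrk : ∀ (g : GLk) (x : 𝔈), rk (conjE g x) = rk x := fun g x => by
    let e : M ≃ₗ[ZMod p] M := LinearMap.GeneralLinearGroup.generalLinearEquiv (ZMod p) M g
    have h : LinearMap.range (conjE g x) = (LinearMap.range x).map e.toLinearMap := by
      rw [← LinearMap.range_comp]
      refine le_antisymm ?_ ?_
      · rintro _ ⟨m, rfl⟩
        exact ⟨((g⁻¹ : GLk) : 𝔈) m, rfl⟩
      · rintro _ ⟨m, rfl⟩
        exact ⟨(g : 𝔈) m, by simp [conjE, ← Module.End.mul_apply, e]⟩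
    rw [rk, rk, h, LinearEquiv.finrank_map_eq]
  have h := ha.2.2 _ (conjE_isRoot (inv_mem hg) hb)
    (fun h => hb0 (conjE_injective g⁻¹ (h.trans (conjE_zero _).symm)))
  rwa [hrk, ← hrk g a] at h

/-- The root sets of `a` and `b` are conjugate in `G`. -/
def Eqv (G : Subgroup GLk) (a b : 𝔈) : Prop :=
  ∃ g ∈ G, conjE g '' rootSet G a = rootSet G b

theorem Eqv.of_rootSet_eq {a b : 𝔈} (h : rootSet G a = rootSet G b) : Eqv G a b :=
  ⟨1, one_mem G, by rw [← h]; simp [conjE_one]⟩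

theorem Eqv.symm {a b : 𝔈} (h : Eqv G a b) : Eqv G b a := by
  obtain ⟨g, hg, e⟩ := h
  refine ⟨g⁻¹, inv_mem hg, ?_⟩
  rw [← e, Set.image_image]
  simp [conjE_conjE, conjE_one]

theorem Eqv.trans {a b c : 𝔈} (h : Eqv G a b) (h' : Eqv G b c) : Eqv G a c := by
  obtain ⟨g, hg, e⟩ := h
  obtain ⟨g', hg', e'⟩ := h'
  refine ⟨g' * g, mul_mem hg' hg, ?_⟩
  rw [← e', ← e, Set.image_image]
  simp [conjE_conjE]

theorem eqv_conjE {g : GLk} (hg : g ∈ G) (a : 𝔈) : Eqv G a (conjE g a) :=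
  ⟨g, hg, image_rootSet (Subgroup.le_normalizer hg) a⟩

end Rel

variable [Finite M]

theorem exists_opp (h5 : 5 ≤ p) (hO : Cfsg.pCore p G = ⊥) {a : 𝔈} (ha : IsMin G a) :
    ∃ e, IsMin G e ∧ Opp a e := by
  have h2 := two_ne h5
  have hk := card_ne h5
  by_contra hno
  push Not at hno
  have hu : ∀ e, IsMin G e → a * e * a = 0 ∧ e * a * e = 0 := fun e he =>
    (unip_or_opp h2 hk ha he).resolve_right (hno e he)
  set σ := uEnd a ha.1.1 with hσdef
  have hσa : (σ : 𝔈) - 1 = a := uEnd_sub_one a ha.1.1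
  have hσ : IsMin G ((σ : 𝔈) - 1) := by rw [hσa]; exact ha
  set W : Set (Subgroup GLk) :=
    {A | ∃ g ∈ G, A = Cfsg.sameActionSubgroup G (g * σ * g⁻¹)}
  have h5061 := Cfsg.Agent.S5061.result (G := G) (W := W)
    (by rintro A ⟨g, hg, rfl⟩; exact sameAction_le (minimal_conj hσ hg))
    (by
      rintro A ⟨g, hg, rfl⟩ B ⟨g', hg', rfl⟩
      refine isUnipotentOn_sup h2 hk (minimal_conj hσ hg) (minimal_conj hσ hg') ?_
      have key : ∀ {g g' : GLk}, g ∈ G → g' ∈ G →
          conjE g a * conjE g' a * conjE g a = 0 := by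
        intro g g' hg hg'
        have h := (hu _ (isMin_conjE (Subgroup.le_normalizer (mul_mem (inv_mem hg) hg')) ha)).1
        have h' := congrArg (conjE g) h
        rwa [conjE_mul, conjE_mul, conjE_conjE, mul_inv_cancel_left, conjE_zero] at h'
      rw [conj_sub_one, conj_sub_one, hσa]
      exact ⟨key hg hg', key hg' hg⟩)
    (by
      rintro A ⟨g, hg, rfl⟩ x hx
      refine ⟨x * g, mul_mem hx hg, ?_⟩
      rw [conjBy_sameAction (minimal_conj hσ hg) hx]
      simp only [mul_inv_rev, mul_assoc])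
  obtain ⟨hNu, hNnorm⟩ := h5061
  obtain ⟨n, hflag⟩ := isUnipotentOn_iff.1 hNu
  have hn := (CfsgLib.Trans3.Unipotent.flag_eq_bot_iff _ n).1 hflag
  set N := ⨆ A ∈ W, A
  have hNG : N ≤ G := iSup₂_le fun A hA => by
    obtain ⟨g, hg, rfl⟩ := hA
    exact sameAction_le (minimal_conj hσ hg)
  have hnorm : (N.subgroupOf G).Normal := by
    refine ⟨fun x hx g => ?_⟩
    rw [Subgroup.mem_subgroupOf] at hx ⊢
    have := (CfsgLib.Trans3.RankOne.mem_conjBy (A := N) (g := (g : GLk))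
      (x := (g : GLk) * x * (g : GLk)⁻¹)).2 (by simpa [mul_assoc] using hx)
    rw [hNnorm _ g.2] at this
    exact this
  have hp' : IsPGroup p (N.subgroupOf G) := by
    rintro ⟨x, hx⟩
    refine ⟨n, Subtype.ext (Subtype.ext ?_)⟩
    refine pow_eq_one_of_isNilpotent (a := a) ha.2.1 (g := (x : GLk)) ?_
    have h := hn (List.replicate n (((x : GLk) : 𝔈) - 1))
      (fun g hg => ⟨(x : GLk), Subgroup.mem_subgroupOf.1 hx, (List.eq_of_mem_replicate hg).symm⟩)
      List.length_replicate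
    rwa [List.prod_replicate] at h
  have h1 := CfsgLib.Solvable.le_pCore hnorm hp'
  rw [hO] at h1
  have hσN : σ ∈ N := Subgroup.mem_iSup_of_mem (Cfsg.sameActionSubgroup G σ)
    (Subgroup.mem_iSup_of_mem ⟨1, one_mem G, by simp⟩ (self_mem_sameAction hσ))
  have h3 := h1 (show (⟨σ, hNG hσN⟩ : G) ∈ N.subgroupOf G from hσN)
  rw [Subgroup.mem_bot] at h3
  refine ha.2.1 ?_
  rw [← hσa, show σ = 1 from congrArg Subtype.val h3]
  simp

/-- Opposite root sets are conjugate. -/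
theorem eqv_of_opp (h5 : 5 ≤ p) {a b : 𝔈} (ha : IsMin G a) (hb : IsMin G b) (h : Opp a b) :
    Eqv G a b := by
  obtain ⟨c, hc, hc0, h1, h1'⟩ := h.exists_inverse (two_ne h5) (card_ne h5) ha hb
  have hi : InvPair a c := ⟨ha.1.1, hc.1.1, h1, h1'⟩
  have hw := slHom_mem hi ha.1 hc.1 wEl
  refine Eqv.trans ?_ (Eqv.of_rootSet_eq (hb.rootSet_eq hc hc0))
  refine Eqv.symm ⟨slHom hi wEl, hw, ?_⟩
  rw [image_rootSet (Subgroup.le_normalizer hw), conjE_wEl hi (self_mem_rootSet hc.1), h1,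
    rootSet_neg]

theorem eqv_comm (h5 : 5 ≤ p) (hO : Cfsg.pCore p G = ⊥) {a b : 𝔈} (ha : IsMin G a)
    (h1 : a * b * a = 0) (h1' : b * a * b = 0) (hb : IsRoot G b) (hz : IsMin G (a * b - b * a)) :
    Eqv G a (a * b - b * a) := by
  have h2 := two_ne h5
  have hk := card_ne h5
  obtain ⟨e, he, hze⟩ := exists_opp h5 hO hz
  obtain ⟨c, hc, hc0, hzcz, -⟩ := hze.exists_inverse h2 hk hz he
  have hcm := he.of_mem hc hc0
  set z := a * b - b * a with hz_def
  have ho : Opp z c := hze.mono hz he (self_mem_rootSet hz.1) hc hz.2.1 hc0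
  have hzc : Eqv G c z := (eqv_of_opp h5 hz hcm ho).symm
  by_cases hca : Opp a c
  · exact (eqv_of_opp h5 ha hcm hca).trans hzc
  have hconj : ∀ s : ZMod p, conjE (uEnd (s • b) (smul_sq hb.1 s)) a = a - s • z := fun s => by
    rw [conjE, uEnd_coe, uEnd_inv_coe, hz_def]
    simp only [add_mul, mul_sub, sub_mul, one_mul, mul_one, smul_mul_assoc, mul_smul_comm, h1',
      smul_zero, sub_zero, smul_sub]
    abel
  have hG : ∀ s : ZMod p, uEnd (s • b) (smul_sq hb.1 s) ∈ G := fun s => (hb.smul s).uEnd_mem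
  have hm : ∀ s : ZMod p, IsMin G (a - s • z) := fun s =>
    hconj s ▸ isMin_conjE (Subgroup.le_normalizer (hG s)) ha
  have base : ∀ s : ZMod p, Opp (a - s • z) c → Eqv G a z := fun s ho =>
    ((hconj s ▸ eqv_conjE (hG s) a).trans (eqv_of_opp h5 (hm s) hcm ho)).trans hzc
  by_cases hp1 : Opp (a - (1 : ZMod p) • z) c
  · exact base 1 hp1
  by_cases hn : Opp (a - (-1 : ZMod p) • z) c
  · exact base (-1) hn
  exfalso
  have u0 := ((unip_or_opp h2 hk ha hcm).resolve_right hca).1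
  have u1 := ((unip_or_opp h2 hk (hm 1) hcm).resolve_right hp1).1
  have u2 := ((unip_or_opp h2 hk (hm (-1)) hcm).resolve_right hn).1
  rw [one_smul] at u1
  rw [neg_smul, one_smul, sub_neg_eq_add] at u2
  refine hz.2.1 ?_
  have e : (a - z) * c * (a - z) + (a + z) * c * (a + z) = a * c * a + a * c * a + (z + z) := by
    simp only [add_mul, sub_mul, mul_add, mul_sub, hzcz]
    abel
  rw [u0, u1, u2, add_zero, zero_add] at e
  have h4 : (2 : ZMod p) • z = 0 := by rw [two_smul]; exact e.symm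
  exact (smul_eq_zero.1 h4).resolve_left h2

/-- Members of different classes commute. -/
theorem commute_of_not_eqv (h5 : 5 ≤ p) (hO : Cfsg.pCore p G = ⊥) {a b : 𝔈} (ha : IsMin G a)
    (hb : IsMin G b) (h : ¬ Eqv G a b) {x y : 𝔈} (hx : x ∈ rootSet G a) (hy : y ∈ rootSet G b) :
    x * y = y * x := by
  rcases eq_or_ne x 0 with rfl | hx0
  · simp
  rcases eq_or_ne y 0 with rfl | hy0
  · simp
  have hne : ¬ Eqv G x y := fun h' => h (((Eqv.of_rootSet_eq (ha.rootSet_eq hx hx0)).symm.trans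
    h').trans (Eqv.of_rootSet_eq (hb.rootSet_eq hy hy0)))
  have hx' := ha.of_mem hx hx0
  have hy' := hb.of_mem hy hy0
  rcases unip_or_opp (two_ne h5) (card_ne h5) hx' hy' with ⟨h1, h1'⟩ | ho
  swap; · exact absurd (eqv_of_opp h5 hx' hy' ho) hne
  by_contra h0
  have hz := (commData hx' hy' h1 h1' fun e => h0 (sub_eq_zero.1 e)).isMin
  have hz' := (commData hy' hx' h1' h1 fun e => h0 (sub_eq_zero.1 e).symm).isMin
  refine hne ((eqv_comm h5 hO hx' h1 h1' hy'.1 hz).trans (Eqv.symm ?_))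
  refine (eqv_comm h5 hO hy' h1' h1 hx'.1 hz').trans (Eqv.of_rootSet_eq ?_)
  rw [show y * x - x * y = -(x * y - y * x) by abel, rootSet_neg]

end CfsgLib.PLocal.CoprimeQuad
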