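import Mathlib

/-!
# Additive groups of units closed under squares and inverses in a finite ring

If `J` contains `1`, the squares and the inverses of its elements, and every non-zero element is
invertible, then every non-zero element is `y ^ 2` or `y θ y` for one fixed `θ`.
-/

set_option autoImplicit false

namespace CfsgLib.PLocal.CoprimeQuad

variable {R : Type*} [Ring R]

/-- A finite special Jordan division algebra, as a subgroup of an associative ring. -/
structure JordanDiv (J : AddSubgroup R) : Prop where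
  one_mem : (1 : R) ∈ J
  sq_mem : ∀ x ∈ J, x * x ∈ J
  inv : ∀ x ∈ J, x ≠ 0 → ∃ y ∈ J, x * y = 1 ∧ y * x = 1

variable {J : AddSubgroup R}

namespace JordanDiv

theorem eq_zero_of_mul (hJ : JordanDiv J) {x y : R} (hx : x ∈ J) (hx0 : x ≠ 0) (h : x * y = 0) :
    y = 0 := by
  obtain ⟨z, -, -, hz⟩ := hJ.inv x hx hx0
  rw [← one_mul y, ← hz, mul_assoc, h, mul_zero]

theorem sym_mem (hJ : JordanDiv J) {x y : R} (hx : x ∈ J) (hy : y ∈ J) : x * y + y * x ∈ J := by
  have e : x * y + y * x = (x + y) * (x + y) - x * x - y * y := by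
    simp only [add_mul, mul_add]; abel
  rw [e]
  exact J.sub_mem (J.sub_mem (hJ.sq_mem _ (J.add_mem hx hy)) (hJ.sq_mem x hx)) (hJ.sq_mem y hy)

variable {p : ℕ} [hp : Fact p.Prime] [CharP R p]

omit hp in
theorem half (hp2 : Odd p) {x : R} (h : x + x ∈ J) : x ∈ J := by
  obtain ⟨m, rfl⟩ := hp2
  have h0 : ((2 * m + 1 : ℕ) : R) = 0 := CharP.cast_eq_zero R _
  have e : (m + 1) • (x + x) = x := by
    rw [← two_nsmul, ← mul_nsmul', show (m + 1) * 2 = (2 * m + 1) + 1 by ring, succ_nsmul,
      nsmul_eq_mul, h0, zero_mul, zero_add]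
  rw [← e]
  exact J.nsmul_mem h _

omit hp in
theorem comm_mem (hJ : JordanDiv J) (hp2 : Odd p) {x y : R} (hx : x ∈ J) (hy : y ∈ J)
    (h : x * y = y * x) : x * y ∈ J := by
  refine half hp2 ?_
  nth_rewrite 2 [h]
  exact hJ.sym_mem hx hy

omit hp in
theorem usq_mem (hJ : JordanDiv J) (hp2 : Odd p) {y z : R} (hy : y ∈ J) (hz : z ∈ J) :
    y * z * y ∈ J := by
  refine half hp2 ?_
  have e : y * z * y + y * z * y =
      y * (y * z + z * y) + (y * z + z * y) * y - (y * y * z + z * (y * y)) := by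
    simp only [mul_add, add_mul, mul_assoc]; abel
  rw [e]
  exact J.sub_mem (hJ.sym_mem hy (hJ.sym_mem hy hz)) (hJ.sym_mem (hJ.sq_mem y hy) hz)

/-- The central part of `J`. -/
def IsCentralJ (J : AddSubgroup R) (c : R) : Prop := c ∈ J ∧ ∀ y ∈ J, c * y = y * c

omit hp in
/-- The ring generated by pairwise commuting elements of `J` lies in `J`. -/
theorem closure_le (hJ : JordanDiv J) (hp2 : Odd p) {s : Set R} (hs : s ⊆ J)
    (hc : ∀ a ∈ s, ∀ b ∈ s, a * b = b * a) :
    (∀ x ∈ Subring.closure s, x ∈ J) ∧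
      (∀ x ∈ Subring.closure s, ∀ y ∈ Subring.closure s, x * y = y * x) ∧
      ∀ t : R, (∀ a ∈ s, t * a = a * t) → ∀ x ∈ Subring.closure s, t * x = x * t := by
  have h3 : ∀ t : R, (∀ a ∈ s, t * a = a * t) → ∀ x ∈ Subring.closure s, t * x = x * t := by
    intro t ht x hx
    have hle : Subring.closure s ≤ Subring.centralizer {t} := Subring.closure_le.2 fun a ha => by
      rw [SetLike.mem_coe, Subring.mem_centralizer_iff]
      rintro _ rfl
      exact ht a ha
    exact Subring.mem_centralizer_iff.1 (hle hx) t rfl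
  have h2 : ∀ x ∈ Subring.closure s, ∀ y ∈ Subring.closure s, x * y = y * x :=
    fun x hx => h3 x fun a ha => (h3 a (hc a ha) x hx).symm
  refine ⟨fun x hx => ?_, h2, h3⟩
  induction hx using Subring.closure_induction with
  | mem a ha => exact hs ha
  | zero => exact J.zero_mem
  | one => exact hJ.one_mem
  | add a b _ _ ha hb => exact J.add_mem ha hb
  | neg a _ ha => exact J.neg_mem ha
  | mul a b ha' hb' ha hb => exact hJ.comm_mem hp2 ha hb (h2 a ha' b hb')

variable [Finite R] [Nontrivial R]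

omit hp in
/-- A commuting set generates a finite field inside `J`. -/
theorem closure_isField (hJ : JordanDiv J) (hp2 : Odd p) {s : Set R} (hs : s ⊆ J)
    (hc : ∀ a ∈ s, ∀ b ∈ s, a * b = b * a) : IsField ↥(Subring.closure s) := by
  obtain ⟨h1, h2, -⟩ := hJ.closure_le hp2 hs hc
  refine ⟨⟨0, 1, zero_ne_one⟩, fun x y => Subtype.ext (h2 x x.2 y y.2), fun {x} hx => ?_⟩
  have hinj : Function.Injective fun y : ↥(Subring.closure s) => x * y := by
    intro y z h
    refine Subtype.ext (sub_eq_zero.1 (hJ.eq_zero_of_mul (h1 x x.2) (fun h0 => hx (Subtype.ext h0)) ?_))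
    rw [mul_sub, sub_eq_zero]
    exact congrArg Subtype.val h
  exact (Finite.injective_iff_surjective.1 hinj) 1

/-- In a finite field of odd characteristic, a fixed non-square splits the elements. -/
theorem isSquare_or_of_nonsquare {F : Type*} [Field F] [Finite F] (hF : ringChar F ≠ 2) {θ : F}
    (hθ : ¬ IsSquare θ) (a : F) : ∃ s : F, a = s * s ∨ a = θ * (s * s) := by
  classical
  haveI := Fintype.ofFinite F
  by_cases ha : IsSquare a
  · obtain ⟨s, hs⟩ := ha
    exact ⟨s, Or.inl hs⟩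
  have hθ0 : θ ≠ 0 := fun h => hθ ⟨0, by simp [h]⟩
  have ha0 : a ≠ 0 := fun h => ha ⟨0, by simp [h]⟩
  have h1 : quadraticChar F (a * θ⁻¹) = 1 := by
    have e : quadraticChar F (a * θ⁻¹) * quadraticChar F θ = quadraticChar F a := by
      rw [← map_mul, mul_assoc, inv_mul_cancel₀ hθ0, mul_one]
    rw [quadraticChar_neg_one_iff_not_isSquare.2 hθ, quadraticChar_neg_one_iff_not_isSquare.2 ha] at e
    linarith
  obtain ⟨s, hs⟩ := (quadraticChar_one_iff_isSquare (mul_ne_zero ha0 (inv_ne_zero hθ0))).1 h1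
  exact ⟨s, Or.inr (by rw [← hs, mul_comm θ, inv_mul_cancel_right₀ hθ0])⟩

/-- Every element of a finite field is a sum of two squares. -/
theorem exists_sq_add_sq {F : Type*} [Field F] [Finite F] (hF : ringChar F ≠ 2) (θ : F) :
    ∃ a b : F, a * a + b * b = θ := by
  classical
  haveI := Fintype.ofFinite F
  obtain ⟨a, b, h⟩ := FiniteField.exists_root_sum_quadratic
    (f := (Polynomial.X ^ 2 : Polynomial F)) (g := Polynomial.X ^ 2 - Polynomial.C θ)
    (Polynomial.degree_X_pow 2) (Polynomial.degree_X_pow_sub_C two_pos θ)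
    ((Nat.odd_iff.1 (Nat.odd_iff.2 (FiniteField.odd_card_of_char_ne_two hF))))
  refine ⟨a, b, ?_⟩
  simp only [Polynomial.eval_pow, Polynomial.eval_X, Polynomial.eval_sub, Polynomial.eval_C] at h
  linear_combination h

omit hp [Finite R] [CharP R p] in
theorem ringChar_ne_two [CharP R p] (hp2 : Odd p) {F : Type*} [Field F] (f : F →+* R) :
    ringChar F ≠ 2 := by
  intro h
  have h2 : (2 : F) = 0 := by
    have := ringChar.Nat.cast_ringChar (R := F)
    rw [h] at this
    exact_mod_cast this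
  have h3 : ((2 : ℕ) : R) = 0 := by
    rw [← map_natCast f, Nat.cast_ofNat, h2, map_zero]
  rw [CharP.cast_eq_zero_iff R p] at h3
  rcases (Nat.dvd_prime Nat.prime_two).1 h3 with rfl | rfl
  · exact CharP.ringChar_ne_one (R := R) (ringChar.eq R 1)
  · exact absurd hp2 (by decide)

omit hp in
/-- **Two orbits.**  There is one `θ` such that every non-zero element is `y²` or `y θ y`. -/
theorem exists_two_classes (hJ : JordanDiv J) (hp2 : Odd p) :
    ∃ θ ∈ J, θ ≠ 0 ∧ ∀ x ∈ J, x ≠ 0 → ∃ y ∈ J, y ≠ 0 ∧ (x = y * y ∨ x = y * θ * y) := by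
  -- the centre of `J`
  have hcl := fun (s : Set R) => hJ.closure_le hp2 (s := s)
  let Z : Set R := {c | IsCentralJ J c}
  have hZc : ∀ a ∈ Z, ∀ b ∈ Z, a * b = b * a := fun a ha b hb => ha.2 b hb.1
  have hZs : Z ⊆ (J : Set R) := fun a ha => ha.1
  obtain ⟨hZJ, -, hZcom⟩ := hcl Z hZs hZc
  have hZeq : ∀ c ∈ Subring.closure Z, IsCentralJ J c := fun c hc =>
    ⟨hZJ c hc, fun y hy => (hZcom y (fun a ha => (ha.2 y hy).symm) c hc).symm⟩
  letI fZ : Field ↥(Subring.closure Z) := (hJ.closure_isField hp2 hZs hZc).toField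
  have hFZ : ringChar ↥(Subring.closure Z) ≠ 2 :=
    ringChar_ne_two (p := p) hp2 (Subring.closure Z).subtype
  obtain ⟨θ', hθ'⟩ := FiniteField.exists_nonsquare hFZ
  obtain ⟨θ, hθeq⟩ : ∃ θ : R, θ = (θ' : R) := ⟨_, rfl⟩
  have hθc : IsCentralJ J θ := hθeq ▸ hZeq _ θ'.2
  have hθ0 : θ ≠ 0 := fun h => hθ' ⟨0, Subtype.ext (by rw [← hθeq, h]; simp)⟩
  obtain ⟨α', β', hab'⟩ := exists_sq_add_sq hFZ θ'
  -- no element squares to `θ`
  have noroot : ∀ i ∈ J, i * i ≠ θ := by
    intro i hiJ hii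
    have hiZ : ¬ IsCentralJ J i := fun h =>
      hθ' ⟨⟨i, Subring.subset_closure h⟩, Subtype.ext (by rw [← hθeq]; exact hii.symm)⟩
    obtain ⟨y, hy, hyi⟩ : ∃ y ∈ J, i * y ≠ y * i := by
      by_contra hall
      push Not at hall
      exact hiZ ⟨hiJ, hall⟩
    obtain ⟨t, htJ, htθ, -⟩ := hJ.inv θ hθc.1 hθ0
    have htc : ∀ u ∈ J, t * u = u * t := fun u hu => by
      obtain ⟨t', -, h1, h2⟩ := hJ.inv θ hθc.1 hθ0
      have e : t * θ = 1 := by rw [← hθc.2 t htJ]; exact htθ
      calc t * u = t * u * (θ * t) := by rw [htθ, mul_one]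
        _ = t * (θ * u) * t := by rw [hθc.2 u hu]; simp only [mul_assoc]
        _ = u * t := by rw [← mul_assoc t θ u, e, one_mul]
    set z := y - t * (i * y * i) with hzdef
    have hzJ : z ∈ J := J.sub_mem hy (hJ.comm_mem hp2 htJ (hJ.usq_mem hp2 hiJ hy)
      (htc _ (hJ.usq_mem hp2 hiJ hy)))
    have hiz : i * z = i * y - y * i := by
      rw [hzdef, mul_sub, ← mul_assoc i t, ← htc i hiJ, mul_assoc t i, ← mul_assoc i (i * y),
        ← mul_assoc i i, hii, ← mul_assoc t, ← mul_assoc t θ, ← hθc.2 t htJ, htθ, one_mul]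
    have hzi : z * i = y * i - i * y := by
      have e : t * θ = 1 := by rw [← hθc.2 t htJ]; exact htθ
      rw [hzdef, sub_mul, mul_assoc t _ i, mul_assoc (i * y) i i, hii, mul_assoc i y θ,
        ← hθc.2 y hy, ← mul_assoc i θ y, ← hθc.2 i hiJ, mul_assoc θ i y, ← mul_assoc t θ, e,
        one_mul]
    have hanti : z * i = -(i * z) := by rw [hiz, hzi]; abel
    have hz0 : z ≠ 0 := fun h => hyi (by rw [h, mul_zero] at hiz; exact sub_eq_zero.1 hiz.symm)
    set w := z * z with hw
    have hwJ : w ∈ J := hJ.sq_mem z hzJ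
    have hwi : i * w = w * i := by
      rw [hw, ← mul_assoc, show i * z = -(z * i) by rw [hanti, neg_neg], neg_mul, mul_assoc z i z,
        show i * z = -(z * i) by rw [hanti, neg_neg], mul_neg, neg_neg, mul_assoc z z i]
    obtain ⟨hLJ, hLc, hLt⟩ := hcl {θ, w} (Set.insert_subset hθc.1 (Set.singleton_subset_iff.2 hwJ))
      (by
        rintro a (rfl | rfl) b (rfl | rfl) <;>
          first | rfl | exact hθc.2 _ hwJ | exact (hθc.2 _ hwJ).symm)
    letI fL : Field ↥(Subring.closure {θ, w}) := (hJ.closure_isField hp2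
      (Set.insert_subset hθc.1 (Set.singleton_subset_iff.2 hwJ)) (by
        rintro a (rfl | rfl) b (rfl | rfl) <;>
          first | rfl | exact hθc.2 _ hwJ | exact (hθc.2 _ hwJ).symm)).toField
    have hFL : ringChar ↥(Subring.closure {θ, w}) ≠ 2 :=
      ringChar_ne_two (p := p) hp2 (Subring.closure {θ, w}).subtype
    have hiL : ∀ x ∈ Subring.closure {θ, w}, i * x = x * i := hLt i (by
      rintro a (rfl | rfl)
      · exact (hθc.2 i hiJ).symm
      · exact hwi)
    have hzL : ∀ x ∈ Subring.closure {θ, w}, z * x = x * z := hLt z (by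
      rintro a (rfl | rfl)
      · exact (hθc.2 z hzJ).symm
      · exact (mul_assoc z z z).symm)
    have two : ∀ {x : R}, x + x = 0 → x = 0 := fun {x} h => by
      have := half (J := (⊥ : AddSubgroup R)) (x := x) hp2 (by simpa using h)
      simpa using this
    let θL : ↥(Subring.closure {θ, w}) := ⟨θ, Subring.subset_closure (Set.mem_insert _ _)⟩
    have hθL : ¬ IsSquare θL := by
      rintro ⟨⟨j, hj⟩, he⟩
      have hjj : θ = j * j := congrArg Subtype.val he
      have hd : (i - j) * (i + j) = 0 := by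
        rw [sub_mul, mul_add, mul_add, hii, hiL j hj, ← hjj]; abel
      have hij : i = j ∨ i = -j := by
        by_cases h : i - j = 0
        · exact Or.inl (sub_eq_zero.1 h)
        · exact Or.inr (eq_neg_of_add_eq_zero_left
            (hJ.eq_zero_of_mul (J.sub_mem hiJ (hLJ j hj)) h hd))
      have hc : z * i = i * z := by
        rcases hij with rfl | rfl
        · exact hzL i hj
        · rw [mul_neg, neg_mul, hzL j hj]
      rw [hanti] at hc
      have h0 : i * z = 0 := two (by nth_rewrite 1 [← hc]; exact neg_add_cancel _)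
      refine hθ0 ?_
      rw [← hii, show i = 0 from ?_, mul_zero]
      by_contra hi0
      exact hz0 (hJ.eq_zero_of_mul hiJ hi0 h0)
    obtain ⟨s, hs⟩ := isSquare_or_of_nonsquare hFL hθL
      (⟨w, Subring.subset_closure (Set.mem_insert_of_mem _ rfl)⟩ : ↥(Subring.closure {θ, w}))
    have hsJ : (s : R) ∈ J := hLJ s s.2
    have hs0 : (s : R) ≠ 0 := by
      intro h0
      have hw0 : w = 0 := by
        rcases hs with h | h <;>
        · have := congrArg Subtype.val h
          simpa [h0] using this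
      exact hz0 (hJ.eq_zero_of_mul hzJ hz0 hw0)
    obtain ⟨r, hrJ, hsr, hrs⟩ := hJ.inv s hsJ hs0
    have hrc : ∀ u, u * (s : R) = s * u → u * r = r * u := fun u hu => by
      calc u * r = r * s * (u * r) := by rw [hrs, one_mul]
        _ = r * (u * (s * r)) := by rw [← mul_assoc u, hu]; simp only [mul_assoc]
        _ = r * u := by rw [hsr, mul_one]
    have hri : i * r = r * i := hrc i (hiL s s.2)
    set z₀ := z * r with hz₀
    have hrz : z * r = r * z := hrc z (hzL s s.2)
    have hz₀J : z₀ ∈ J := hJ.comm_mem hp2 hzJ hrJ hrz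
    have hz₀i : z₀ * i = -(i * z₀) := by
      rw [hz₀, mul_assoc, ← hri, ← mul_assoc, hanti, neg_mul, mul_assoc]
    have hz₀sq : z₀ * z₀ = w * (r * r) := by
      rw [hz₀, hw, mul_assoc z r (z * r), ← mul_assoc r z r, ← hrz]; simp only [mul_assoc]
    have hsrr : (s : R) * s * (r * r) = 1 := by
      rw [mul_assoc (s : R), ← mul_assoc (s : R) r r, hsr, one_mul, hsr]
    have hz₀0 : z₀ ≠ 0 := fun h => hz0 (by
      rw [← mul_one z, ← hrs, ← mul_assoc, ← hz₀, h, zero_mul])
    rcases hs with h | h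
    · have h1 : z₀ * z₀ = 1 := by
        rw [hz₀sq, show w = (s : R) * s from congrArg Subtype.val h, hsrr]
      have hd : (z₀ - 1) * (z₀ + 1) = 0 := by
        rw [sub_mul, one_mul, mul_add, mul_one, h1]; abel
      have hzc : z₀ * i = i * z₀ := by
        by_cases h0 : z₀ - 1 = 0
        · rw [sub_eq_zero.1 h0, one_mul, mul_one]
        · rw [eq_neg_of_add_eq_zero_left (hJ.eq_zero_of_mul (J.sub_mem hz₀J hJ.one_mem) h0 hd),
            neg_mul, mul_neg, one_mul, mul_one]
      rw [hz₀i] at hzc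
      have h0 : i * z₀ = 0 := two (by nth_rewrite 1 [← hzc]; exact neg_add_cancel _)
      exact hz₀0 (hJ.eq_zero_of_mul hiJ (fun hi0 => hθ0 (by rw [← hii, hi0, mul_zero])) h0)
    · have h1 : z₀ * z₀ = θ := by
        rw [hz₀sq, show w = θ * ((s : R) * s) from congrArg Subtype.val h, mul_assoc, hsrr, mul_one]
      set α : R := (α' : R) with hα
      set β : R := (β' : R) with hβ
      have hαc := hZeq α α'.2
      have hβc := hZeq β β'.2
      have hab : α * α + β * β = θ := by rw [hθeq]; exact congrArg Subtype.val hab'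
      set v := α * i + β * z₀ with hv
      have hvJ : v ∈ J := J.add_mem (hJ.comm_mem hp2 hαc.1 hiJ (hαc.2 i hiJ))
        (hJ.comm_mem hp2 hβc.1 hz₀J (hβc.2 z₀ hz₀J))
      have hvv : v * v = θ * θ := by
        have e : ∀ c d u t' : R, IsCentralJ J c → IsCentralJ J d → u ∈ J → t' ∈ J →
            c * u * (d * t') = c * d * (u * t') := fun c d u t' hc hd hu ht => by
          rw [mul_assoc, ← mul_assoc u, ← hd.2 u hu]; simp only [mul_assoc]
        rw [hv, add_mul, mul_add, mul_add, e α α i i hαc hαc hiJ hiJ,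
          e α β i z₀ hαc hβc hiJ hz₀J, e β α z₀ i hβc hαc hz₀J hiJ,
          e β β z₀ z₀ hβc hβc hz₀J hz₀J, hii, h1, hz₀i, ← hαc.2 β hβc.1, mul_neg]
        conv_rhs => arg 1; rw [← hab]
        rw [add_mul]
        abel
      have hd : (v - θ) * (v + θ) = 0 := by
        rw [sub_mul, mul_add v v, mul_add θ v, hvv, hθc.2 v hvJ]; abel
      have hvc : v * i = i * v := by
        by_cases h0 : v - θ = 0
        · rw [sub_eq_zero.1 h0]; exact hθc.2 i hiJ
        · rw [eq_neg_of_add_eq_zero_left (hJ.eq_zero_of_mul (J.sub_mem hvJ hθc.1) h0 hd),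
            neg_mul, mul_neg, hθc.2 i hiJ]
      rw [hv, add_mul, mul_add, mul_assoc α, mul_assoc β, hz₀i, ← mul_assoc i α, ← hαc.2 i hiJ,
        mul_assoc α, ← mul_assoc i β, ← hβc.2 i hiJ, mul_assoc β, mul_neg, add_right_inj] at hvc
      have h0 : β * (i * z₀) = 0 := two (by nth_rewrite 1 [← hvc]; exact neg_add_cancel _)
      have hiz0 : i * z₀ ≠ 0 := fun h' => hz₀0
        (hJ.eq_zero_of_mul hiJ (fun hi0 => hθ0 (by rw [← hii, hi0, mul_zero])) h')
      have hβ0 : β = 0 := by
        by_contra hb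
        exact hiz0 (hJ.eq_zero_of_mul hβc.1 hb h0)
      exact hθ' ⟨α', Subtype.ext (by rw [← hθeq]; simpa [hβ0] using hab.symm)⟩
  -- the two classes
  refine ⟨θ, hθc.1, hθ0, fun x hx hx0 => ?_⟩
  have hs' : ({θ, x} : Set R) ⊆ J := Set.insert_subset hθc.1 (Set.singleton_subset_iff.2 hx)
  have hc' : ∀ a ∈ ({θ, x} : Set R), ∀ b ∈ ({θ, x} : Set R), a * b = b * a := by
    rintro a (rfl | rfl) b (rfl | rfl) <;> first | rfl | exact hθc.2 _ hx | exact (hθc.2 _ hx).symm
  obtain ⟨hLJ, -, -⟩ := hcl {θ, x} hs' hc'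
  letI fL : Field ↥(Subring.closure {θ, x}) := (hJ.closure_isField hp2 hs' hc').toField
  have hFL : ringChar ↥(Subring.closure {θ, x}) ≠ 2 :=
    ringChar_ne_two (p := p) hp2 (Subring.closure {θ, x}).subtype
  obtain ⟨s, hs⟩ := isSquare_or_of_nonsquare hFL
    (θ := ⟨θ, Subring.subset_closure (Set.mem_insert _ _)⟩)
    (by rintro ⟨⟨j, hj⟩, he⟩; exact noroot j (hLJ j hj) (congrArg Subtype.val he).symm)
    (⟨x, Subring.subset_closure (Set.mem_insert_of_mem _ rfl)⟩ : ↥(Subring.closure {θ, x}))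
  have hsJ : (s : R) ∈ J := hLJ s s.2
  rcases hs with h | h
  · have e : x = (s : R) * s := congrArg Subtype.val h
    exact ⟨s, hsJ, fun h0 => hx0 (by rw [e, h0, mul_zero]), Or.inl e⟩
  · have e : x = θ * ((s : R) * s) := congrArg Subtype.val h
    refine ⟨s, hsJ, fun h0 => hx0 (by rw [e, h0, mul_zero, mul_zero]), Or.inr ?_⟩
    exact e.trans (by rw [← hθc.2 (s : R) hsJ, mul_assoc])

end JordanDiv

end CfsgLib.PLocal.CoprimeQuad
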