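import Cfsg.Agent.Lib.PLocal.CoprimeQuad.Torus
import Cfsg.Agent.Lib.PLocal.CoprimeQuad.Jordan
import Cfsg.Agent.Lib.FT.OddOrder

/-!
# A coprime group fixing a root set fixes an inverse pair in it
-/

set_option autoImplicit false

namespace CfsgLib.PLocal.CoprimeQuad

open CfsgLib.PLocal.QPair
open scoped MatrixGroups

universe v

variable {k : Type*} [Field k] {M : Type*} [AddCommGroup M] [Module k M]

/-- Conjugation on endomorphisms, as an action (not an instance). -/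
@[reducible]
def endAction : MulAction (LinearMap.GeneralLinearGroup k M) (M →ₗ[k] M) where
  smul g x := conjE g x
  one_smul x := conjE_one x
  mul_smul g h x := (conjE_conjE g h x).symm

/-- Conjugation on sets of endomorphisms, as an action (not an instance). -/
@[reducible]
def setAction : MulAction (LinearMap.GeneralLinearGroup k M) (Set (M →ₗ[k] M)) where
  smul g S := conjE g '' S
  one_smul S := by
    show conjE (1 : LinearMap.GeneralLinearGroup k M) '' S = S
    simp [conjE_one]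
  mul_smul g h S := by
    show conjE (g * h) '' S = conjE g '' (conjE h '' S)
    rw [Set.image_image]
    simp [conjE_conjE]

theorem conjE_wEl_left {a c : M →ₗ[k] M} (h : InvPair a c) : conjE (slHom h wEl) a = -c := by
  obtain ⟨t1, t2, t3, t4, t5, t6, t7, t8, t9, t10, t11, t12⟩ := table h
  have hl : matEnd a c !![(0 : k), 1; -1, 0] * (a * c) = -c := by
    simp [matEnd, add_mul, sub_mul, t1, t4, t7, t9]
  have hr : c * a * matEnd a c !![(0 : k), -1; 1, 0] = c := by
    simp [matEnd, mul_add, mul_sub, t2, t4, t8, t10]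
  rw [conjE, ← map_inv, slHom_coe, slHom_coe, wEl_val, inv_wEl_val]
  generalize matEnd a c !![(0 : k), 1; -1, 0] = W at hl ⊢
  generalize matEnd a c !![(0 : k), -1; 1, 0] = W' at hr ⊢
  conv_lhs => rw [show a = a * c * a * (c * a) by rw [t5, t6]]
  rw [show W * (a * c * a * (c * a)) * W' = W * (a * c) * a * (c * a * W') by
    simp only [mul_assoc], hl, hr, neg_mul, neg_mul, h.czc]

variable {p : ℕ} [hp : Fact p.Prime] {M : Type v} [AddCommGroup M] [Module (ZMod p) M] [Finite M]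

local notation "GLk" => LinearMap.GeneralLinearGroup (ZMod p) M
local notation "𝔈" => M →ₗ[ZMod p] M
local notation "𝕜" => ZMod p

variable {G A : Subgroup (LinearMap.GeneralLinearGroup (ZMod p) M)}

omit [Finite M] in
theorem neg_one_units_ne (h5 : 5 ≤ p) : (-1 : 𝕜ˣ) ≠ 1 := by
  intro h
  have h' : (-1 : 𝕜) = 1 := by simpa using congrArg Units.val h
  exact two_ne h5 (by linear_combination -h')

theorem two_dvd_card (h5 : 5 ≤ p) {a c : 𝔈} (ha : IsRoot G a) (ha0 : a ≠ 0) (hc : IsRoot G c)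
    (h : InvPair a c) : 2 ∣ Nat.card G := by
  haveI : Finite GLk := finite_gl
  set g : G := ⟨tor h (-1), slHom_mem h ha hc _⟩ with hg
  have hne : dgHom (p := p) (-1) ≠ 1 := fun e => neg_one_units_ne h5 (Units.ext (by
    have h' : ((-1 : 𝕜ˣ) : 𝕜) = (1 : Matrix (Fin 2) (Fin 2) 𝕜) 0 0 :=
      congrArg (fun A : SL(2, 𝕜) => (A : Matrix (Fin 2) (Fin 2) 𝕜) 0 0) e
    rw [Matrix.one_apply_eq] at h'
    rw [h', Units.val_one]))
  have h1 : g ≠ 1 := fun e => hne (slHom_injective h ha0 (by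
    rw [map_one]; exact congrArg Subtype.val e))
  have h2 : g ^ 2 = 1 := Subtype.ext (by
    show (tor h (-1)) ^ 2 = 1
    rw [← map_pow, neg_one_sq, map_one])
  rw [← orderOf_eq_prime h2 h1]
  exact orderOf_dvd_natCard g

/-- `A` has odd order, so it is solvable. -/
theorem solvable_of_coprime (h5 : 5 ≤ p) {a c : 𝔈} (ha : IsRoot G a) (ha0 : a ≠ 0)
    (hc : IsRoot G c) (h : InvPair a c) (hcop : (Nat.card A).Coprime (Nat.card G)) :
    Odd (Nat.card A) ∧ Group.IsSolvable A := by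
  haveI : Finite GLk := finite_gl
  have ho : Odd (Nat.card A) := Nat.Coprime.odd_of_right
    (hcop.coprime_dvd_right (two_dvd_card h5 ha ha0 hc h))
  exact ⟨ho, CfsgLib.FT.odd_order_solvable ho⟩

/-- `A` fixes the root set of some inverse of `a`. -/
theorem exists_fixed_partner (h5 : 5 ≤ p) {a c₀ : 𝔈} (ha : IsMin G a) (hc₀ : IsMin G c₀)
    (h₀ : InvPair a c₀) (hA : A ≤ Subgroup.normalizer (G : Set GLk))
    (hcop : (Nat.card A).Coprime (Nat.card G))
    (hfix : ∀ α ∈ A, conjE α '' rootSet G a = rootSet G a) :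
    ∃ c, IsMin G c ∧ InvPair a c ∧ ∀ α ∈ A, conjE α '' rootSet G c = rootSet G c := by
  haveI : Finite GLk := finite_gl
  letI := setAction (k := 𝕜) (M := M)
  set U := layU G (LinearMap.range a) (LinearMap.ker a) with hU
  have hs := (solvable_of_coprime h5 ha.1 ha.2.1 hc₀.1 h₀ hcop).2
  have hae : ∀ α ∈ A, conjE α a ∈ rootSet G a ∧ IsMin G (conjE α a) := fun α hα =>
    ⟨(hfix α hα).le ⟨a, self_mem_rootSet ha.1, rfl⟩, isMin_conjE (hA hα) ha⟩
  have key : ∀ α ∈ A, ∀ g ∈ U, α * g * α⁻¹ ∈ U := by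
    intro α hα g hg
    obtain ⟨e1, e2⟩ := ha.sameAct (hae α hα).1 (hae α hα).2.2.1
    refine ⟨(Subgroup.mem_normalizer_iff.1 (hA hα) g).1 hg.1, ?_⟩
    have hP : ∀ m ∈ LinearMap.range a, ((α⁻¹ : GLk) : 𝔈) m ∈ LinearMap.range a := by
      intro m hm
      rw [← e1] at hm
      obtain ⟨v, rfl⟩ := hm
      refine ⟨((α⁻¹ : GLk) : 𝔈) v, ?_⟩
      simp [conjE, ← Module.End.mul_apply, ← mul_assoc]
    have hK : ∀ m ∈ LinearMap.ker a, ((α⁻¹ : GLk) : 𝔈) m ∈ LinearMap.ker a := by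
      intro m hm
      rw [← e2, LinearMap.mem_ker] at hm
      rw [LinearMap.mem_ker]
      have := congrArg ((α⁻¹ : GLk) : 𝔈) hm
      simpa [conjE, ← Module.End.mul_apply, ← mul_assoc] using this
    have hP' : ∀ m ∈ LinearMap.range a, (α : 𝔈) m ∈ LinearMap.range a := by
      rintro _ ⟨v, rfl⟩
      rw [← e1]
      exact ⟨(α : 𝔈) v, by simp [conjE, ← Module.End.mul_apply, mul_assoc]⟩
    have hK' : ∀ m ∈ LinearMap.ker a, (α : 𝔈) m ∈ LinearMap.ker a := by
      intro m hm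
      rw [← e2, LinearMap.mem_ker]
      have hinv : ((α⁻¹ : GLk) : 𝔈) ((α : 𝔈) m) = m := by
        rw [← Module.End.mul_apply, Units.inv_mul, Module.End.one_apply]
      rw [conjE, Module.End.mul_apply, Module.End.mul_apply, hinv, LinearMap.mem_ker.1 hm, map_zero]
    have hid : ∀ m, (α : 𝔈) (((α⁻¹ : GLk) : 𝔈) m) = m := fun m => by
      rw [← Module.End.mul_apply, Units.mul_inv, Module.End.one_apply]
    have hval : ∀ m, ((α * g * α⁻¹ : GLk) : 𝔈) m = (α : 𝔈) ((g : 𝔈) (((α⁻¹ : GLk) : 𝔈) m)) :=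
      fun m => rfl
    refine ⟨fun m hm => ?_, fun m => ?_, fun m hm => ?_⟩
    · rw [hval, hg.2.onP _ (hP m hm), one_smul, hid, one_smul]
    · have h := hK' _ (hg.2.top (((α⁻¹ : GLk) : 𝔈) m))
      rw [inv_one, one_smul, map_sub, hid, ← hval] at h
      rw [inv_one, one_smul]
      exact h
    · have h := hP' _ (hg.2.mid _ (hK m hm))
      rwa [map_sub, hid, ← hval] at h
  have hAU : A ≤ Subgroup.normalizer (U : Set GLk) := fun α hα =>
    Subgroup.mem_normalizer_iff.2 fun g => ⟨key α hα g, fun h => by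
      have := key α⁻¹ (inv_mem hα) _ h
      simpa [mul_assoc] using this⟩
  obtain ⟨_, ⟨c, hc, hci, rfl⟩, hfix'⟩ := CfsgLib.Coprime.exists_fixed_point hAU
    (hcop.coprime_dvd_right (Subgroup.card_dvd_of_le layU_le)) (Or.inl hs)
    {T : Set 𝔈 | ∃ c, IsMin G c ∧ InvPair a c ∧ T = rootSet G c}
    ⟨_, c₀, hc₀, h₀, rfl⟩
    (by
      rintro α hα _ ⟨c, hc, hci, rfl⟩
      show ∃ d, IsMin G d ∧ InvPair a d ∧ conjE α '' rootSet G c = rootSet G d
      rw [image_rootSet (hA hα)]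
      have hc' := isMin_conjE (hA hα) hc
      have ho : Opp a (conjE α c) := (InvPair.opp (InvPair.conjE hci α)).mono (hae α hα).2 hc'
        (by rw [ha.rootSet_eq (hae α hα).1 (hae α hα).2.2.1]; exact self_mem_rootSet ha.1)
        (self_mem_rootSet hc'.1) ha.2.1 hc'.2.1
      obtain ⟨d, hd, hd0, e1, e2⟩ := ho.exists_inverse (two_ne h5) (card_ne h5) ha hc'
      exact ⟨d, hc'.of_mem hd hd0, ⟨ha.1.1, hd.1.1, e1, e2⟩, (hc'.rootSet_eq hd hd0).symm⟩)
    (by
      rintro g hg _ ⟨c, hc, hci, rfl⟩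
      show ∃ d, IsMin G d ∧ InvPair a d ∧ conjE g '' rootSet G c = rootSet G d
      have hn := Subgroup.le_normalizer (layU_le hg)
      refine ⟨conjE g c, isMin_conjE hn hc, ?_, image_rootSet hn c⟩
      have := InvPair.conjE hci g
      rwa [conjE_eq_self_of_lay ha.1.1 hg.2] at this)
    (by
      rintro _ ⟨c, hc, hci, rfl⟩ _ ⟨d, hd, hdi, rfl⟩
      obtain ⟨n, hn, e⟩ := exists_conj_inverse h5 ha.1 ha.2.1 hc.1 hd.1 hci hdi
      refine ⟨n, hn, ?_⟩
      show conjE n '' rootSet G c = rootSet G d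
      rw [image_rootSet (Subgroup.le_normalizer (layU_le hn)), e])
  exact ⟨c, hc, hci, hfix'⟩

/-- `A` fixes an inverse pair. -/
theorem exists_fixed_pair (h5 : 5 ≤ p) {a c : 𝔈} (ha : IsMin G a) (hc : IsMin G c)
    (h : InvPair a c) (hA : A ≤ Subgroup.normalizer (G : Set GLk))
    (hcop : (Nat.card A).Coprime (Nat.card G))
    (hfa : ∀ α ∈ A, conjE α '' rootSet G a = rootSet G a)
    (hfc : ∀ α ∈ A, conjE α '' rootSet G c = rootSet G c) :
    ∃ x d, x ∈ rootSet G a ∧ IsMin G x ∧ IsMin G d ∧ InvPair x d ∧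
      ∀ α ∈ A, conjE α x = x ∧ conjE α d = d := by
  classical
  haveI : Finite GLk := finite_gl
  haveI : Module.Finite 𝕜 M := Module.Finite.of_finite
  letI := endAction (k := 𝕜) (M := M)
  have h2 := two_ne h5
  have hk := card_ne h5
  obtain ⟨hodd, hs⟩ := solvable_of_coprime h5 ha.1 ha.2.1 hc.1 h hcop
  -- the two-set stabiliser
  let T : Subgroup GLk :=
    G ⊓ @MulAction.stabilizer GLk (Set 𝔈) _ setAction (rootSet G a) ⊓
      @MulAction.stabilizer GLk (Set 𝔈) _ setAction (rootSet G c)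
  have hT : ∀ g, g ∈ T ↔ g ∈ G ∧ conjE g '' rootSet G a = rootSet G a ∧
      conjE g '' rootSet G c = rootSet G c := fun g => by
    show (g ∈ G ∧ _) ∧ _ ↔ _
    exact and_assoc
  have img : ∀ (g g' : GLk) (S : Set 𝔈), conjE g '' (conjE g' '' S) = conjE (g * g') '' S :=
    fun g g' S => by rw [Set.image_image]; simp [conjE_conjE]
  have key : ∀ α ∈ A, ∀ g ∈ T, α * g * α⁻¹ ∈ T := by
    intro α hα g hg
    rw [hT] at hg ⊢
    refine ⟨(Subgroup.mem_normalizer_iff.1 (hA hα) g).1 hg.1, ?_, ?_⟩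
    · rw [← img, ← img, hfa _ (inv_mem hα), hg.2.1, hfa α hα]
    · rw [← img, ← img, hfc _ (inv_mem hα), hg.2.2, hfc α hα]
  have hAT : A ≤ Subgroup.normalizer (T : Set GLk) := fun α hα =>
    Subgroup.mem_normalizer_iff.2 fun g => ⟨key α hα g, fun h => by
      have := key α⁻¹ (inv_mem hα) _ h
      simpa [mul_assoc] using this⟩
  obtain ⟨t1, t2, t3, t4, t5, t6, t7, t8, t9, t10, t11, t12⟩ := table h
  -- inverses in the root set of `c`
  have hinv : ∀ x ∈ rootSet G a, x ≠ 0 → ∃ d ∈ rootSet G c, d ≠ 0 ∧ InvPair x d := by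
    intro x hx hx0
    obtain ⟨d, hd, hd0, e1, e2⟩ := ((InvPair.opp h).mono ha hc hx (self_mem_rootSet hc.1) hx0
      hc.2.1).exists_inverse h2 hk (ha.of_mem hx hx0) hc
    exact ⟨d, hd, hd0, hx.1.1, hd.1.1, e1, e2⟩
  have hsq : ∀ x ∈ rootSet G a, x ≠ 0 → ∀ z ∈ rootSet G c, x * z * x ∈ rootSet G a := by
    intro x hx hx0 z hz
    obtain ⟨d, hd, hd0, hi⟩ := hinv x hx hx0
    rw [← ha.rootSet_eq hx hx0]
    exact mul_mem_rootSet hi hx.1 hd.1 (by rwa [hc.rootSet_eq hd hd0])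
  -- the torus elements
  have htor : ∀ y ∈ rootSet G a, y ≠ 0 → ∃ g ∈ T, ∀ z ∈ rootSet G a, conjE g z = y * c * z * c * y := by
    intro y hy hy0
    obtain ⟨d, hd, hd0, hi⟩ := hinv y hy hy0
    have hyM := ha.of_mem hy hy0
    have hdM := hc.of_mem hd hd0
    have hrd : rootSet G d = rootSet G c := hc.rootSet_eq hd hd0
    have hry : rootSet G y = rootSet G a := ha.rootSet_eq hy hy0
    set wa := slHom h wEl with hwa
    set wy := slHom hi wEl with hwy
    have hwaG : wa ∈ G := slHom_mem h ha.1 hc.1 _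
    have hwyG : wy ∈ G := slHom_mem hi hyM.1 hdM.1 _
    have swapA : conjE wa '' rootSet G c = rootSet G a ∧ conjE wa '' rootSet G a = rootSet G c := by
      constructor <;> rw [image_rootSet (Subgroup.le_normalizer hwaG)]
      · rw [conjE_wEl h (self_mem_rootSet hc.1), h.zcz, rootSet_neg]
      · rw [conjE_wEl_left h, rootSet_neg]
    have swapY : conjE wy '' rootSet G c = rootSet G a ∧ conjE wy '' rootSet G a = rootSet G c := by
      constructor
      · rw [← hrd, image_rootSet (Subgroup.le_normalizer hwyG),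
          conjE_wEl hi (self_mem_rootSet hdM.1), hi.zcz, rootSet_neg, hry]
      · rw [← hry, image_rootSet (Subgroup.le_normalizer hwyG), conjE_wEl_left hi, rootSet_neg,
          hrd]
    have back : conjE wa⁻¹ '' rootSet G a = rootSet G c ∧ conjE wa⁻¹ '' rootSet G c = rootSet G a := by
      constructor
      · conv_lhs => rw [← swapA.1]
        rw [img, inv_mul_cancel]; simp [conjE_one]
      · conv_lhs => rw [← swapA.2]
        rw [img, inv_mul_cancel]; simp [conjE_one]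
    refine ⟨wy * wa⁻¹, ?_, fun z hz => ?_⟩
    · rw [hT]
      exact ⟨mul_mem hwyG (inv_mem hwaG), by rw [← img, back.1, swapY.1],
        by rw [← img, back.2, swapY.2]⟩
    · have hu : c * z * c ∈ rootSet G c := mul_mem_rootSet h.symm hc.1 ha.1 hz
      have e : conjE wa (c * z * c) = -z := by
        obtain ⟨l1, l2⟩ := layer h hz
        rw [conjE_wEl h hu, show a * (c * z * c) * a = a * c * z * (c * a) by simp only [mul_assoc],
          l1, l2]
      have e' : conjE wa⁻¹ z = -(c * z * c) := by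
        have h' := congrArg (conjE wa⁻¹) e
        rw [conjE_conjE, inv_mul_cancel, conjE_one] at h'
        rw [h', show (-z : 𝔈) = (-1 : 𝕜) • z by simp, conjE_smul]
        simp
      rw [← conjE_conjE, e', show (-(c * z * c) : 𝔈) = (-1 : 𝕜) • (c * z * c) by simp, conjE_smul,
        conjE_wEl hi (by rwa [hrd])]
      simp [mul_assoc]
  -- the Jordan algebra on the range of `a`
  set P := LinearMap.range a with hP
  have mapsP : ∀ x ∈ rootSet G a, ∀ m ∈ P, (x * c) m ∈ P := fun x hx m _ =>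
    hx.2.1 (LinearMap.mem_range_self x _)
  let J : AddSubgroup (Module.End 𝕜 P) :=
    { carrier := {r | ∃ x ∈ rootSet G a, ∀ m : P, (r m : M) = x (c (m : M))}
      zero_mem' := ⟨0, zero_mem_rootSet a, fun m => by simp⟩
      add_mem' := fun {r r'} ⟨x, hx, e⟩ ⟨x', hx', e'⟩ =>
        ⟨x + x', add_mem_rootSet ha.1.1 hx hx', fun m => by simp [e m, e' m]⟩
      neg_mem' := fun {r} ⟨x, hx, e⟩ => ⟨-x, neg_mem_rootSet hx, fun m => by simp [e m]⟩ }
  let φ : ∀ x ∈ rootSet G a, Module.End 𝕜 P := fun x hx => (x * c).restrict (mapsP x hx)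
  have φJ : ∀ x hx, φ x hx ∈ J := fun x hx => ⟨x, hx, fun m => rfl⟩
  have hid : ∀ m : P, a (c (m : M)) = m := by
    rintro ⟨_, v, rfl⟩
    exact LinearMap.congr_fun h.zcz v
  have ext' : ∀ x ∈ rootSet G a, ∀ x' ∈ rootSet G a,
      (∀ m : P, x (c (m : M)) = x' (c (m : M))) → x = x' := by
    intro x hx x' hx' e
    rw [← (layer h hx).2, ← (layer h hx').2]
    exact LinearMap.ext fun m => e ⟨a m, LinearMap.mem_range_self a m⟩
  have hJ : JordanDiv J := by
    refine ⟨⟨a, self_mem_rootSet ha.1, fun m => (hid m).symm⟩, ?_, ?_⟩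
    · rintro r ⟨x, hx, e⟩
      rcases eq_or_ne x 0 with rfl | hx0
      · have : r = 0 := LinearMap.ext fun m => Subtype.ext (by simp [e m])
        simp only [this, mul_zero]
        exact ⟨0, zero_mem_rootSet a, fun m => by simp⟩
      refine ⟨x * c * x, hsq x hx hx0 c (self_mem_rootSet hc.1), fun m => ?_⟩
      rw [Module.End.mul_apply, e, e]
      rfl
    · rintro r ⟨x, hx, e⟩ hr0
      have hx0 : x ≠ 0 := fun h0 => hr0 (LinearMap.ext fun m => Subtype.ext (by simp [e m, h0]))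
      obtain ⟨d, hd, hd0, hi⟩ := hinv x hx hx0
      have hy := hsq a (self_mem_rootSet ha.1) ha.2.1 d hd
      refine ⟨φ _ hy, φJ _ hy, ?_⟩
      have one : r * φ _ hy = 1 := by
        refine LinearMap.ext fun m => Subtype.ext ?_
        rw [Module.End.mul_apply, e]
        show x (c (a (d (a (c (m : M)))))) = m
        rw [hid, show c (a (d (m : M))) = d (m : M) from LinearMap.congr_fun (layer h.symm hd).1 _]
        obtain ⟨v, hv⟩ := (ha.sameAct hx hx0).1.ge m.2
        rw [← hv]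
        exact LinearMap.congr_fun hi.zcz v
      exact ⟨one, mul_eq_one_comm.1 one⟩
  haveI : Nontrivial P :=
    Submodule.nontrivial_iff_ne_bot.2 fun e => ha.2.1 (LinearMap.range_eq_bot.1 e)
  haveI : Nontrivial (Module.End 𝕜 P) := inferInstance
  haveI : CharP (Module.End 𝕜 P) p :=
    charP_of_injective_algebraMap (algebraMap 𝕜 (Module.End 𝕜 P)).injective p
  haveI : Finite (Module.End 𝕜 P) :=
    Finite.of_injective (fun r : Module.End 𝕜 P => (r : P → P)) DFunLike.coe_injective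
  obtain ⟨θ, ⟨xθ, hxθ, eθ⟩, hθ0, hcls⟩ := hJ.exists_two_classes (hp.out.odd_of_ne_two (by omega))
  have hxθ0 : xθ ≠ 0 := fun h0 => hθ0 (LinearMap.ext fun m => Subtype.ext (by simp [eθ m, h0]))
  -- every element lies in one of two orbits
  have orb : ∀ x ∈ rootSet G a, x ≠ 0 → ∃ g ∈ T, conjE g a = x ∨ conjE g xθ = x := by
    intro x hx hx0
    obtain ⟨r, ⟨y, hy, ey⟩, hr0, hcase⟩ := hcls (φ x hx) (φJ x hx) (fun h0 => hx0 (ext' x hx 0
      (zero_mem_rootSet a) fun m => by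
        have := congrArg (fun r : Module.End 𝕜 P => ((r m : P) : M)) h0
        simpa [φ] using this))
    have hy0 : y ≠ 0 := fun h0 => hr0 (LinearMap.ext fun m => Subtype.ext (by simp [ey m, h0]))
    obtain ⟨g, hg, hgz⟩ := htor y hy hy0
    have hin : ∀ z ∈ rootSet G a, y * c * z * c * y ∈ rootSet G a := fun z hz => by
      have h' := hsq y hy hy0 (c * z * c) (mul_mem_rootSet h.symm hc.1 ha.1 hz)
      simpa only [mul_assoc] using h'
    refine ⟨g, hg, hcase.imp (fun e => ?_) fun e => ?_⟩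
    · rw [hgz a (self_mem_rootSet ha.1)]
      refine ext' _ (hin a (self_mem_rootSet ha.1)) x hx fun m => ?_
      have h' := congrArg (fun r : Module.End 𝕜 P => ((r m : P) : M)) e
      have h'' : x (c (m : M)) = ((r (r m) : P) : M) := h'
      rw [h'', ey, ey]
      show y (c (a (c (y (c (m : M)))))) = _
      rw [hid ⟨y (c m), hy.2.1 (LinearMap.mem_range_self y _)⟩]
    · rw [hgz xθ hxθ]
      refine ext' _ (hin xθ hxθ) x hx fun m => ?_
      have h' := congrArg (fun r : Module.End 𝕜 P => ((r m : P) : M)) e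
      have h'' : x (c (m : M)) = ((r (θ (r m)) : P) : M) := h'
      rw [h'', ey, eθ, ey]
      rfl
  have hTmem : ∀ g ∈ T, ∀ x ∈ rootSet G a, conjE g x ∈ rootSet G a := fun g hg x hx =>
    ((hT g).1 hg).2.1.le ⟨x, hx, rfl⟩
  let S : Set 𝔈 := {x | ∃ g ∈ T, conjE g a = x}
  -- the orbit of `a` is `A`-invariant
  have hsub : ∀ α ∈ A, ∀ g ∈ T, conjE α (conjE g a) = conjE (α * g * α⁻¹) (conjE α a) := fun α _ g _ => by
    rw [conjE_conjE, conjE_conjE, inv_mul_cancel_right]
  have hmul : ∀ α ∈ A, ∀ β ∈ A, conjE α a ∈ S → conjE β a ∈ S → conjE (α * β) a ∈ S := by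
    rintro α hα β hβ ⟨g, hg, eg⟩ ⟨g', hg', eg'⟩
    refine ⟨α * g' * α⁻¹ * g, mul_mem (key α hα g' hg') hg, ?_⟩
    rw [← conjE_conjE (α * g' * α⁻¹) g, eg, ← hsub α hα g' hg', eg', conjE_conjE]
  have hsquare : ∀ α ∈ A, conjE (α * α) a ∈ S := by
    intro α hα
    have cases : ∀ β ∈ A, ∃ g ∈ T, conjE g a = conjE β a ∨ conjE g xθ = conjE β a := fun β hβ =>
      orb _ ((hfa β hβ).le ⟨a, self_mem_rootSet ha.1, rfl⟩) (isMin_conjE (hA hβ) ha).2.1
    obtain ⟨g₁, hg₁, h₁ | h₁⟩ := cases α hα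
    · exact hmul α hα α hα ⟨g₁, hg₁, h₁⟩ ⟨g₁, hg₁, h₁⟩
    obtain ⟨g₂, hg₂, h₂ | h₂⟩ := cases (α * α) (mul_mem hα hα)
    · exact ⟨g₂, hg₂, h₂⟩
    set t := g₂ * g₁⁻¹
    have e : conjE t (conjE α a) = conjE (α * α) a := by
      rw [← h₁, conjE_conjE, inv_mul_cancel_right, h₂]
    have h' : conjE (α⁻¹ * t * α) a = conjE α a := by
      rw [← conjE_conjE, ← conjE_conjE, e, conjE_conjE, inv_mul_cancel_left]
    have hin : α⁻¹ * t * α ∈ T := by
      have := key α⁻¹ (inv_mem hα) t (mul_mem hg₂ (inv_mem hg₁))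
      rwa [inv_inv] at this
    exact hmul α hα α hα ⟨_, hin, h'⟩ ⟨_, hin, h'⟩
  have hAS : ∀ α ∈ A, conjE α a ∈ S := by
    intro α hα
    obtain ⟨n, hn⟩ := hodd
    have hp1 : α ^ (2 * n + 1) = 1 := by
      have := congrArg Subtype.val (pow_card_eq_one' (x := (⟨α, hα⟩ : A)))
      rwa [hn] at this
    have e : α = α ^ (n + 1) * α ^ (n + 1) := by
      rw [← pow_add, show n + 1 + (n + 1) = (2 * n + 1) + 1 by ring, pow_succ, hp1, one_mul]
    rw [e]
    exact hsquare _ (pow_mem hα _)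
  obtain ⟨x, ⟨g, hg, hgx⟩, hxfix⟩ := CfsgLib.Coprime.exists_fixed_point hAT
    (hcop.coprime_dvd_right (Subgroup.card_dvd_of_le fun g hg => ((hT g).1 hg).1)) (Or.inl hs) S
    ⟨a, 1, one_mem T, conjE_one a⟩
    (by
      rintro α hα _ ⟨g, hg, rfl⟩
      obtain ⟨g', hg', eg'⟩ := hAS α hα
      refine ⟨α * g * α⁻¹ * g', mul_mem (key α hα g hg) hg', ?_⟩
      show _ = conjE α (conjE g a)
      rw [← conjE_conjE (α * g * α⁻¹) g', eg', hsub α hα g hg])
    (by
      rintro t ht _ ⟨g, hg, rfl⟩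
      exact ⟨t * g, mul_mem ht hg, (conjE_conjE t g a).symm⟩)
    (by
      rintro _ ⟨g, hg, rfl⟩ _ ⟨g', hg', rfl⟩
      refine ⟨g' * g⁻¹, mul_mem hg' (inv_mem hg), ?_⟩
      show conjE (g' * g⁻¹) (conjE g a) = conjE g' a
      rw [conjE_conjE, inv_mul_cancel_right])
  have hxa : x ∈ rootSet G a := hgx ▸ hTmem g hg a (self_mem_rootSet ha.1)
  have hxM : IsMin G x := hgx ▸ isMin_conjE (Subgroup.le_normalizer ((hT g).1 hg).1) ha
  obtain ⟨d, hd, hd0, hi⟩ := hinv x hxa hxM.2.1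
  refine ⟨x, d, hxa, hxM, hc.of_mem hd hd0, hi, fun α hα => ⟨hxfix α hα, ?_⟩⟩
  have hi' := InvPair.conjE hi α
  rw [show conjE α x = x from hxfix α hα] at hi'
  refine inverse_unique (G := G) hi ?_ hi'
  rw [hc.rootSet_eq hd hd0]
  exact (hfc α hα).le ⟨d, hd, rfl⟩

end CfsgLib.PLocal.CoprimeQuad
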