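import Cfsg.Agent.Lib.PLocal.CoprimeQuad.Fixed
import Mathlib.GroupTheory.NoncommPiCoprod

/-!
# Quadratic elements and coprime operators: `SL₂(p)` centralised by the operators
-/

set_option autoImplicit false

namespace CfsgLib.PLocal.CoprimeQuad

open CfsgLib.PLocal.QPair
open scoped MatrixGroups

universe v

variable {p : ℕ} [hp : Fact p.Prime] {M : Type v} [AddCommGroup M] [Module (ZMod p) M]

local notation "GLk" => LinearMap.GeneralLinearGroup (ZMod p) M
local notation "𝔈" => M →ₗ[ZMod p] M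
local notation "𝕜" => ZMod p

variable {G A : Subgroup (LinearMap.GeneralLinearGroup (ZMod p) M)}

theorem matEnd_commute {a c b d : 𝔈} (h1 : Commute a b) (h2 : Commute a d) (h3 : Commute c b)
    (h4 : Commute c d) (X Y : Matrix (Fin 2) (Fin 2) 𝕜) :
    Commute (matEnd a c X) (matEnd b d Y) := by
  have key : ∀ {u v w : 𝔈}, Commute w u → Commute w v → ∀ Z : Matrix (Fin 2) (Fin 2) 𝕜,
      Commute w (matEnd u v Z) := fun {u v w} hu hv Z => by
    refine ((((((Commute.one_right w).sub_right (hu.mul_right hv)).sub_right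
      (hv.mul_right hu)).add_right ?_).add_right ?_).add_right ?_).add_right ?_ <;>
      apply Commute.smul_right <;> first | assumption | exact hu.mul_right hv | exact hv.mul_right hu
  exact (key (key h1 h2 Y).symm (key h3 h4 Y).symm X).symm

theorem Eqv.map {α : GLk} (hα : α ∈ Subgroup.normalizer (G : Set GLk)) {a b : 𝔈} (h : Eqv G a b) :
    Eqv G (conjE α a) (conjE α b) := by
  obtain ⟨g, hg, e⟩ := h
  refine ⟨α * g * α⁻¹, (Subgroup.mem_normalizer_iff.1 hα g).1 hg, ?_⟩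
  rw [← image_rootSet hα, ← image_rootSet hα, Set.image_image, ← e, Set.image_image]
  simp [conjE_conjE]

variable [Finite M]

/-- **The linear theorem.** -/
theorem exists_slHom_fixed (h5 : 5 ≤ p) (hO : Cfsg.pCore p G = ⊥) {a₀ : 𝔈} (ha₀ : IsMin G a₀)
    (hA : A ≤ Subgroup.normalizer (G : Set GLk)) (hcop : (Nat.card A).Coprime (Nat.card G)) :
    ∃ f : SL(2, 𝕜) →* GLk, (∀ X, f X ∈ G) ∧ (∀ α ∈ A, ∀ X, α * f X = f X * α) ∧
      f.ker ≤ Subgroup.center SL(2, 𝕜) := by
  classical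
  haveI : Finite GLk := finite_gl
  haveI : Module.Finite 𝕜 M := Module.Finite.of_finite
  have h2 := two_ne h5
  have hk := card_ne h5
  -- stabiliser of the class
  let A₁ : Subgroup GLk :=
    { carrier := {α | α ∈ A ∧ Eqv G a₀ (conjE α a₀)}
      one_mem' := ⟨one_mem A, by rw [conjE_one]; exact Eqv.of_rootSet_eq rfl⟩
      mul_mem' := fun {α β} hα hβ => ⟨mul_mem hα.1 hβ.1, by
        rw [← conjE_conjE]; exact hα.2.trans (Eqv.map (hA hα.1) hβ.2)⟩
      inv_mem' := fun {α} hα => ⟨inv_mem hα.1, by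
        have := Eqv.map (hA (inv_mem hα.1)) hα.2
        rw [conjE_conjE, inv_mul_cancel, conjE_one] at this
        exact this.symm⟩ }
  have hA₁A : A₁ ≤ A := fun α hα => hα.1
  have hA₁ : A₁ ≤ Subgroup.normalizer (G : Set GLk) := hA₁A.trans hA
  have hcop₁ : (Nat.card A₁).Coprime (Nat.card G) :=
    hcop.coprime_dvd_left (Subgroup.card_dvd_of_le hA₁A)
  -- a root set fixed by `A₁`
  obtain ⟨e₀, he₀, ho₀⟩ := exists_opp h5 hO ha₀
  obtain ⟨c', hc', hc'0, q1, q2⟩ := ho₀.exists_inverse h2 hk ha₀ he₀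
  have hs := (solvable_of_coprime h5 ha₀.1 ha₀.2.1 hc'.1 ⟨ha₀.1.1, hc'.1.1, q1, q2⟩ hcop₁).2
  letI := setAction (k := 𝕜) (M := M)
  obtain ⟨_, ⟨g, hg, rfl⟩, hfix⟩ := CfsgLib.Coprime.exists_fixed_point hA₁ hcop₁ (Or.inl hs)
    {S : Set 𝔈 | ∃ g ∈ G, S = conjE g '' rootSet G a₀}
    ⟨_, 1, one_mem G, rfl⟩
    (by
      rintro α hα _ ⟨g, hg, rfl⟩
      obtain ⟨g', hg', e⟩ := hα.2
      refine ⟨α * g * α⁻¹ * g', mul_mem ((Subgroup.mem_normalizer_iff.1 (hA₁ hα) g).1 hg) hg', ?_⟩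
      show conjE α '' (conjE g '' rootSet G a₀) = _
      conv_rhs => rw [show conjE (α * g * α⁻¹ * g') = fun x : 𝔈 => conjE (α * g * α⁻¹) (conjE g' x) from
        funext fun x => (conjE_conjE _ _ x).symm, ← Set.image_image, e, ← image_rootSet (hA₁ hα)]
      rw [Set.image_image, Set.image_image]
      simp [conjE_conjE])
    (by
      rintro t ht _ ⟨g, hg, rfl⟩
      refine ⟨t * g, mul_mem ht hg, ?_⟩
      show conjE t '' (conjE g '' rootSet G a₀) = _
      rw [Set.image_image]; simp [conjE_conjE])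
    (by
      rintro _ ⟨g, hg, rfl⟩ _ ⟨g', hg', rfl⟩
      refine ⟨g' * g⁻¹, mul_mem hg' (inv_mem hg), ?_⟩
      show conjE (g' * g⁻¹) '' (conjE g '' rootSet G a₀) = _
      rw [Set.image_image]; simp [conjE_conjE])
  set a := conjE g a₀
  have hgn := Subgroup.le_normalizer hg
  have ha : IsMin G a := isMin_conjE hgn ha₀
  have hrs : conjE g '' rootSet G a₀ = rootSet G a := image_rootSet hgn a₀
  rw [hrs] at hfix
  obtain ⟨e₁, he₁, ho₁⟩ := exists_opp h5 hO ha
  obtain ⟨c₀, hc₀, hc₀0, r1, r2⟩ := ho₁.exists_inverse h2 hk ha he₁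
  obtain ⟨c, hc, hci, hfc⟩ := exists_fixed_partner h5 ha (he₁.of_mem hc₀ hc₀0)
    ⟨ha.1.1, hc₀.1.1, r1, r2⟩ hA₁ hcop₁ hfix
  obtain ⟨x, d, hxa, hx, hd, hi, hxd⟩ := exists_fixed_pair h5 ha hc hci hA₁ hcop₁ hfix hfc
  have hax : Eqv G a₀ x :=
    (eqv_conjE hg a₀).trans (Eqv.of_rootSet_eq (ha.rootSet_eq hxa hx.2.1).symm)
  have hxdE : Eqv G x d := eqv_of_opp h5 hx hd (InvPair.opp hi)
  -- the family
  let A₁' : Subgroup A := A₁.subgroupOf A
  haveI : Fintype (A ⧸ A₁') := Fintype.ofFinite _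
  let rep : A ⧸ A₁' → GLk := fun q => ((Quotient.out q : A) : GLk)
  have hrep : ∀ q, rep q ∈ A := fun q => (Quotient.out q : A).2
  have hiq : ∀ q, InvPair (conjE (rep q) x) (conjE (rep q) d) := fun q => InvPair.conjE hi _
  let f : ∀ _ : A ⧸ A₁', SL(2, 𝕜) →* GLk := fun q => slHom (hiq q)
  have hcomm : Pairwise fun i j => ∀ X Y, Commute (f i X) (f j Y) := by
    intro i j hij X Y
    have hne : ¬ Eqv G (conjE (rep i) x) (conjE (rep j) x) := by
      intro h
      have h' := Eqv.map (hA (inv_mem (hrep i))) h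
      rw [conjE_conjE, conjE_conjE, inv_mul_cancel, conjE_one] at h'
      have hβ : (rep i)⁻¹ * rep j ∈ A₁ := ⟨mul_mem (inv_mem (hrep i)) (hrep j),
        (hax.trans h').trans (Eqv.map (hA (mul_mem (inv_mem (hrep i)) (hrep j))) hax).symm⟩
      exact hij (by
        rw [← QuotientGroup.out_eq' i, ← QuotientGroup.out_eq' j]
        exact QuotientGroup.eq.2 hβ)
    have hm : ∀ i, IsMin G (conjE (rep i) x) ∧ IsMin G (conjE (rep i) d) ∧
        Eqv G (conjE (rep i) x) (conjE (rep i) d) := fun i =>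
      ⟨isMin_conjE (hA (hrep i)) hx, isMin_conjE (hA (hrep i)) hd, Eqv.map (hA (hrep i)) hxdE⟩
    obtain ⟨mi, mi', ei⟩ := hm i
    obtain ⟨mj, mj', ej⟩ := hm j
    have cm : ∀ {u v : 𝔈}, IsMin G u → IsMin G v → Eqv G (conjE (rep i) x) u →
        Eqv G (conjE (rep j) x) v → Commute u v := fun hu hv eu ev =>
      commute_of_not_eqv h5 hO hu hv (fun h => hne ((eu.trans h).trans ev.symm))
        (self_mem_rootSet hu.1) (self_mem_rootSet hv.1)
    refine Units.ext ?_
    rw [Units.val_mul, Units.val_mul, slHom_coe, slHom_coe]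
    exact matEnd_commute (cm mi mj (Eqv.of_rootSet_eq rfl) (Eqv.of_rootSet_eq rfl))
      (cm mi mj' (Eqv.of_rootSet_eq rfl) ej) (cm mi' mj ei (Eqv.of_rootSet_eq rfl))
      (cm mi' mj' ei ej) _ _
  let F : (A ⧸ A₁' → SL(2, 𝕜)) →* GLk := MonoidHom.noncommPiCoprod f hcomm
  let dg : SL(2, 𝕜) →* (A ⧸ A₁' → SL(2, 𝕜)) := MonoidHom.pi fun _ => MonoidHom.id _
  have hfG : ∀ q X, f q X ∈ G := fun q X =>
    slHom_mem (hiq q) (conjE_isRoot (hA (hrep q)) hx.1) (conjE_isRoot (hA (hrep q)) hd.1) X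
  refine ⟨F.comp dg, fun X => ?_, fun α hα X => ?_, ?_⟩
  · exact Subgroup.noncommProd_mem G (fun i _ j _ h => hcomm h X X) fun q _ => hfG q X
  · set α' : A := ⟨α, hα⟩
    let R : (A ⧸ A₁' → SL(2, 𝕜)) →* (A ⧸ A₁' → SL(2, 𝕜)) :=
      MonoidHom.pi fun q => Pi.evalMonoidHom (fun _ : A ⧸ A₁' => SL(2, 𝕜)) (α'⁻¹ • q)
    have hsingle : ∀ q X, R (Pi.mulSingle q X) = Pi.mulSingle (α' • q) X := fun q X => by
      funext r
      show (Pi.mulSingle q X : A ⧸ A₁' → SL(2, 𝕜)) (α'⁻¹ • r) = _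
      by_cases h : r = α' • q
      · subst h; simp
      · rw [Pi.mulSingle_eq_of_ne h, Pi.mulSingle_eq_of_ne]
        exact fun e => h (by rw [← e, smul_inv_smul])
    have hhom : (MulAut.conj α).toMonoidHom.comp F = F.comp R := by
      refine MonoidHom.pi_ext fun q X => ?_
      show α * F (Pi.mulSingle q X) * α⁻¹ = F (R (Pi.mulSingle q X))
      rw [hsingle]
      simp only [F, MonoidHom.noncommPiCoprod_mulSingle]
      have hβ : (rep (α' • q))⁻¹ * (α * rep q) ∈ A₁ := by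
        have e : (Quotient.out (α' • q) : A)⁻¹ * (α' * Quotient.out q) ∈ A₁' := by
          rw [← QuotientGroup.eq, QuotientGroup.out_eq']
          conv_lhs => rw [← QuotientGroup.out_eq' q]
          rfl
        exact e
      have he : ∀ y : 𝔈, conjE ((rep (α' • q))⁻¹ * (α * rep q)) y = y →
          conjE α (conjE (rep q) y) = conjE (rep (α' • q)) y := fun y hy => by
        conv_rhs => rw [← hy, conjE_conjE, mul_inv_cancel_left]
        rw [conjE_conjE]
      refine Units.ext ?_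
      show conjE α ((f q X : GLk) : 𝔈) = _
      rw [slHom_coe, conjE_matEnd, slHom_coe, he x (hxd _ hβ).1, he d (hxd _ hβ).2]
    have h := DFunLike.congr_fun hhom (dg X)
    have hR : R (dg X) = dg X := rfl
    rw [MonoidHom.comp_apply, MonoidHom.comp_apply, hR] at h
    rw [MonoidHom.comp_apply]
    have h' : α * F (dg X) * α⁻¹ = F (dg X) := h
    calc α * F (dg X) = α * F (dg X) * α⁻¹ * α := by group
      _ = F (dg X) * α := by rw [h']
  · intro X hX
    let q₀ : A ⧸ A₁' := ((1 : A) : A ⧸ A₁')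
    let C := Subgroup.centralizer ((f q₀).range : Set GLk)
    let v : A ⧸ A₁' → SL(2, 𝕜) := Function.update (fun _ => X) q₀ 1
    have hv : dg X = Pi.mulSingle q₀ X * v := by
      funext r
      by_cases h : r = q₀
      · subst h; simp [v, dg]
      · simp [v, dg, Pi.mulSingle_eq_of_ne h, Function.update_of_ne h]
    have hvC : F v ∈ C := Subgroup.noncommProd_mem C (fun i _ j _ h => hcomm h (v i) (v j)) fun q _ => by
      by_cases h : q = q₀
      · subst h; simp [v, one_mem]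
      · rw [Subgroup.mem_centralizer_iff]
        rintro _ ⟨Y, rfl⟩
        exact hcomm (Ne.symm h) Y _
    have hX' : F (Pi.mulSingle q₀ X) * F v = 1 := by
      rw [← map_mul, ← hv]; exact hX
    have hfX : f q₀ X ∈ C := by
      simp only [F, MonoidHom.noncommPiCoprod_mulSingle] at hX'
      rw [eq_inv_of_mul_eq_one_left hX']
      exact inv_mem hvC
    refine Subgroup.mem_center_iff.2 fun Y => slHom_injective (hiq q₀)
      (fun h0 => hx.2.1 (conjE_injective _ (h0.trans (conjE_zero _).symm))) ?_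
    rw [map_mul, map_mul]
    exact Subgroup.mem_centralizer_iff.1 hfX _ ⟨Y, rfl⟩

end CfsgLib.PLocal.CoprimeQuad
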