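import Cfsg.Agent.Lib.PLocal.QPairOpp
import Cfsg.Agent.Lib.PLocal.QPairGrade
import Cfsg.Agent.Lib.Recog.GenDihedral.SLTwoFix

/-!
# An inverse pair of root endomorphisms gives a copy of `SL₂` of the ground field
-/

set_option autoImplicit false

namespace CfsgLib.PLocal.CoprimeQuad

open CfsgLib.PLocal.QPair
open scoped MatrixGroups

variable {k : Type*} [Field k] {M : Type*} [AddCommGroup M] [Module k M]

local notation "GLk" => LinearMap.GeneralLinearGroup k M
local notation "𝔈" => M →ₗ[k] M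

/-- Conjugation on endomorphisms. -/
def conjE (g : GLk) (x : 𝔈) : 𝔈 := (g : 𝔈) * x * ((g⁻¹ : GLk) : 𝔈)

theorem conjE_one (x : 𝔈) : conjE (1 : GLk) x = x := by simp [conjE]

theorem conjE_conjE (g h : GLk) (x : 𝔈) : conjE g (conjE h x) = conjE (g * h) x := by
  simp [conjE, mul_assoc]

theorem conjE_mul (g : GLk) (x y : 𝔈) : conjE g (x * y) = conjE g x * conjE g y := by
  simp [conjE, mul_assoc]

theorem conjE_add (g : GLk) (x y : 𝔈) : conjE g (x + y) = conjE g x + conjE g y := by
  simp [conjE, mul_add, add_mul]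

theorem conjE_sub (g : GLk) (x y : 𝔈) : conjE g (x - y) = conjE g x - conjE g y := by
  simp [conjE, mul_sub, sub_mul]

theorem conjE_smul (g : GLk) (c : k) (x : 𝔈) : conjE g (c • x) = c • conjE g x := by
  simp [conjE]

theorem conjE_zero (g : GLk) : conjE g (0 : 𝔈) = 0 := by simp [conjE]

theorem conjE_one' (g : GLk) : conjE g (1 : 𝔈) = 1 := by simp [conjE]

theorem conjE_injective (g : GLk) : Function.Injective (conjE (k := k) (M := M) g) := fun x y h => by
  have h' := congrArg (conjE g⁻¹) h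
  rwa [conjE_conjE, conjE_conjE, inv_mul_cancel, conjE_one, conjE_one] at h'

theorem conjE_eq_iff (g : GLk) (x : 𝔈) : conjE g x = x ↔ (g : 𝔈) * x = x * (g : 𝔈) := by
  constructor
  · intro h
    conv_rhs => rw [← h]
    simp [conjE, mul_assoc]
  · intro h
    simp [conjE, h, mul_assoc]

section Algebra

variable {a c : M →ₗ[k] M}

/-- Multiplication table of an inverse pair. -/
theorem table (h : InvPair a c) :
    a * c * (a * c) = a * c ∧ c * a * (c * a) = c * a ∧ a * c * (c * a) = 0 ∧ c * a * (a * c) = 0 ∧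
      a * c * a = a ∧ a * (c * a) = a ∧ a * (a * c) = 0 ∧ c * a * a = 0 ∧
      c * (a * c) = c ∧ c * a * c = c ∧ a * c * c = 0 ∧ c * (c * a) = 0 := by
  refine ⟨?_, ?_, ?_, ?_, h.zcz, ?_, ?_, ?_, ?_, h.czc, ?_, ?_⟩
  · rw [← mul_assoc, h.zcz]
  · rw [← mul_assoc, h.czc]
  · rw [mul_assoc, ← mul_assoc c c a, h.cc, zero_mul, mul_zero]
  · rw [mul_assoc, ← mul_assoc a a c, h.zz, zero_mul, mul_zero]
  · rw [← mul_assoc, h.zcz]
  · rw [← mul_assoc, h.zz, zero_mul]
  · rw [mul_assoc, h.zz, mul_zero]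
  · rw [← mul_assoc, h.czc]
  · rw [mul_assoc, h.cc, mul_zero]
  · rw [← mul_assoc, h.cc, zero_mul]

/-- The image of a matrix under the pair. -/
def matEnd (a c : 𝔈) (A : Matrix (Fin 2) (Fin 2) k) : 𝔈 :=
  (1 - a * c - c * a) + A 0 0 • (a * c) + A 0 1 • a + A 1 0 • c + A 1 1 • (c * a)

theorem matEnd_mul (h : InvPair a c) (A B : Matrix (Fin 2) (Fin 2) k) :
    matEnd a c (A * B) = matEnd a c A * matEnd a c B := by
  obtain ⟨t1, t2, t3, t4, t5, t6, t7, t8, t9, t10, t11, t12⟩ := table h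
  simp only [matEnd, Matrix.mul_apply, Fin.sum_univ_two, mul_add, add_mul, mul_sub, sub_mul,
    mul_one, one_mul, smul_mul_assoc, mul_smul_comm, smul_smul, t1, t2, t3, t4, t5, t6, t7, t8, t9,
    t10, t11, t12, h.zz, h.cc, smul_zero]
  module

theorem matEnd_one (a c : 𝔈) : matEnd a c (1 : Matrix (Fin 2) (Fin 2) k) = 1 := by
  simp [matEnd]
  abel

/-- The homomorphism of `SL₂` attached to an inverse pair. -/
def slHom (h : InvPair a c) : SL(2, k) →* GLk :=
  MonoidHom.toHomUnits
    { toFun := fun A => matEnd a c (A : Matrix (Fin 2) (Fin 2) k)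
      map_one' := by simpa using matEnd_one a c
      map_mul' := fun A B => by simpa using matEnd_mul h A B }

theorem slHom_coe (h : InvPair a c) (A : SL(2, k)) :
    ((slHom h A : GLk) : 𝔈) = matEnd a c (A : Matrix (Fin 2) (Fin 2) k) := rfl

theorem conjE_matEnd (g : GLk) (A : Matrix (Fin 2) (Fin 2) k) :
    conjE g (matEnd a c A) = matEnd (conjE g a) (conjE g c) A := by
  simp only [matEnd, conjE_add, conjE_sub, conjE_smul, conjE_mul, conjE_one']

theorem slHom_commute (h : InvPair a c) {g : GLk} (ha : conjE g a = a) (hc : conjE g c = c)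
    (A : SL(2, k)) : g * slHom h A = slHom h A * g := by
  refine Units.ext ((conjE_eq_iff g _).1 ?_)
  rw [slHom_coe, conjE_matEnd, ha, hc]

theorem InvPair.conjE (h : InvPair a c) (g : GLk) : InvPair (CoprimeQuad.conjE g a) (CoprimeQuad.conjE g c) := by
  refine ⟨?_, ?_, ?_, ?_⟩ <;>
    simp only [← conjE_mul, h.zz, h.cc, h.zcz, h.czc, conjE_zero]

/-- The homomorphism is injective. -/
theorem slHom_injective (h : InvPair a c) (ha : a ≠ 0) : Function.Injective (slHom h) := by
  obtain ⟨t1, t2, t3, t4, t5, t6, t7, t8, t9, t10, t11, t12⟩ := table h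
  intro A B hAB
  have hab : matEnd a c (A : Matrix (Fin 2) (Fin 2) k) = matEnd a c (B : Matrix (Fin 2) (Fin 2) k) :=
    congrArg (fun u : GLk => (u : 𝔈)) hAB
  have hc : c ≠ 0 := fun hc => ha (by rw [← h.zcz, hc, mul_zero, zero_mul])
  have hf : c * a ≠ 0 := fun hf => ha (by rw [← t6, hf, mul_zero])
  have he : a * c ≠ 0 := fun he => ha (by rw [← t5, he, zero_mul])
  have key : ∀ X : Matrix (Fin 2) (Fin 2) k,
      a * c * matEnd a c X * (a * c) = X 0 0 • (a * c) ∧
      a * c * matEnd a c X * (c * a) = X 0 1 • a ∧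
      c * a * matEnd a c X * (a * c) = X 1 0 • c ∧
      c * a * matEnd a c X * (c * a) = X 1 1 • (c * a) := by
    intro X
    refine ⟨?_, ?_, ?_, ?_⟩ <;>
      simp only [matEnd, mul_add, add_mul, mul_sub, sub_mul, mul_one, one_mul, smul_mul_assoc,
        mul_smul_comm, t1, t2, t3, t4, t5, t6, t7, t8, t9, t10, t11, t12, h.zz, h.cc, smul_zero,
        zero_mul, sub_zero, zero_sub, add_zero, zero_add, sub_self, neg_zero]
  obtain ⟨a1, a2, a3, a4⟩ := key (A : Matrix (Fin 2) (Fin 2) k)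
  obtain ⟨b1, b2, b3, b4⟩ := key (B : Matrix (Fin 2) (Fin 2) k)
  rw [hab] at a1 a2 a3 a4
  have e1 := smul_left_injective k he (a1.symm.trans b1)
  have e2 := smul_left_injective k ha (a2.symm.trans b2)
  have e3 := smul_left_injective k hc (a3.symm.trans b3)
  have e4 := smul_left_injective k hf (a4.symm.trans b4)
  refine Subtype.ext (Matrix.ext fun i j => ?_)
  fin_cases i <;> fin_cases j <;> assumption

end Algebra

variable {G : Subgroup (LinearMap.GeneralLinearGroup k M)} {a c : M →ₗ[k] M}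

theorem slHom_mem (h : InvPair a c) (ha : IsRoot G a) (hc : IsRoot G c) (A : SL(2, k)) :
    slHom h A ∈ G := by
  have e : (G.comap (slHom h)) = ⊤ := by
    refine CfsgLib.Recog.GenDihedral.SLTwo.closure_up_lo _ (fun t => ?_) fun t => ?_
    · exact ha.2 t _ (by simp [slHom_coe, matEnd, CfsgLib.Recog.GenDihedral.SLTwo.up_val]; abel)
    · exact hc.2 t _ (by simp [slHom_coe, matEnd, CfsgLib.Recog.GenDihedral.SLTwo.lo_val]; abel)
  exact (e.ge (Subgroup.mem_top A) : _)

/-- The Weyl element of `SL₂`. -/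
def wEl : SL(2, k) := ⟨!![0, 1; -1, 0], by simp [Matrix.det_fin_two_of]⟩

theorem wEl_val : ((wEl : SL(2, k)) : Matrix (Fin 2) (Fin 2) k) = !![0, 1; -1, 0] := rfl

theorem inv_wEl_val : ((wEl⁻¹ : SL(2, k)) : Matrix (Fin 2) (Fin 2) k) = !![0, -1; 1, 0] := by
  rw [Matrix.SpecialLinearGroup.coe_inv, wEl_val, Matrix.adjugate_fin_two_of]
  simp

/-- Elements of a root set lie in the outer layer. -/
theorem layer (h : InvPair a c) {z : 𝔈} (hz : z ∈ rootSet G a) :
    a * c * z = z ∧ z * (c * a) = z := by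
  constructor
  · refine LinearMap.ext fun m => ?_
    obtain ⟨v, hv⟩ := hz.2.1 (LinearMap.mem_range_self z m)
    rw [Module.End.mul_apply, ← hv]
    exact LinearMap.congr_fun h.zcz v
  · refine LinearMap.ext fun m => ?_
    have hk : (c * a) m - m ∈ LinearMap.ker a := by
      rw [LinearMap.mem_ker, map_sub, sub_eq_zero]
      show (a * (c * a)) m = a m
      rw [← mul_assoc, h.zcz]
    have h0 := LinearMap.mem_ker.1 (hz.2.2 hk)
    rw [map_sub, sub_eq_zero] at h0
    exact h0

theorem conjE_wEl (h : InvPair a c) {z : 𝔈} (hz : z ∈ rootSet G c) :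
    conjE (slHom h wEl) z = -(a * z * a) := by
  obtain ⟨t1, t2, t3, t4, t5, t6, t7, t8, t9, t10, t11, t12⟩ := table h
  obtain ⟨hz1, hz2⟩ := layer h.symm hz
  have hl : matEnd a c !![0, 1; -1, 0] * (c * a) = a := by
    simp [matEnd, add_mul, sub_mul, t2, t3, t6, t12]
  have hr : a * c * matEnd a c !![0, -1; 1, 0] = -a := by
    simp [matEnd, mul_add, mul_sub, t1, t3, t5, t11]
  have e : z = c * a * z * (a * c) := by rw [hz1, hz2]
  rw [conjE, ← map_inv, slHom_coe, slHom_coe, wEl_val, inv_wEl_val]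
  conv_lhs => rw [e]
  rw [show matEnd a c !![0, 1; -1, 0] * (c * a * z * (a * c)) * matEnd a c !![0, -1; 1, 0] =
    matEnd a c !![0, 1; -1, 0] * (c * a) * z * (a * c * matEnd a c !![0, -1; 1, 0]) by
      simp only [mul_assoc], hl, hr, mul_neg]

theorem conjE_isRoot {g : GLk} (hg : g ∈ Subgroup.normalizer (G : Set GLk)) {x : 𝔈}
    (h : IsRoot G x) : IsRoot G (conjE g x) := by
  refine ⟨by rw [← conjE_mul, h.1, conjE_zero], fun t u hu => ?_⟩
  have e : u = g * uEnd (t • x) (smul_sq h.1 t) * g⁻¹ :=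
    Units.ext (by rw [hu, conj_uEnd, conjE, mul_smul_comm, smul_mul_assoc])
  rw [e]
  exact (Subgroup.mem_normalizer_iff.1 hg _).1 (h.2 t _ rfl)

/-- Transport of a root set along an inverse pair. -/
theorem mul_mem_rootSet (h : InvPair a c) (ha : IsRoot G a) (hc : IsRoot G c) {z : 𝔈}
    (hz : z ∈ rootSet G c) : a * z * a ∈ rootSet G a := by
  refine ⟨?_, ?_, ?_⟩
  · have hr : IsRoot G (conjE (slHom h wEl) z) :=
      conjE_isRoot (Subgroup.le_normalizer (slHom_mem h ha hc wEl)) hz.1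
    rw [conjE_wEl h hz] at hr
    simpa using hr.neg
  · rw [mul_assoc]
    exact LinearMap.range_comp_le_range _ _
  · exact LinearMap.ker_le_ker_comp _ _

theorem InvPair.opp (h : InvPair a c) : Opp a c := by
  constructor <;> rw [Submodule.disjoint_def]
  · rintro _ ⟨m, rfl⟩ hm
    have e := LinearMap.congr_fun h.zcz m
    rw [← e, Module.End.mul_apply, Module.End.mul_apply, LinearMap.mem_ker.1 hm, map_zero]
  · rintro _ ⟨m, rfl⟩ hm
    have e := LinearMap.congr_fun h.czc m
    rw [← e, Module.End.mul_apply, Module.End.mul_apply, LinearMap.mem_ker.1 hm, map_zero]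

/-- Inverses inside a root set are unique. -/
theorem inverse_unique (h : InvPair a c) {d : 𝔈} (hd : d ∈ rootSet G c) (h' : InvPair a d) :
    d = c := by
  obtain ⟨h1, h2⟩ := layer h.symm hd
  calc d = c * a * d * (a * c) := by rw [h1, h2]
    _ = c * (a * d * a) * c := by simp only [mul_assoc]
    _ = c := by rw [h'.zcz, h.czc]

end CfsgLib.PLocal.CoprimeQuad
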