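import Cfsg.Agent.Lib.PLocal.CoprimeQuad.Linear
import Cfsg.Agent.Lib.PLocal.SLTwoInvolve
import Mathlib.GroupTheory.SemidirectProduct

/-!
# Stability on invariant normal `p`-subgroups without fixed sections `PSL₂(p)`
-/

set_option autoImplicit false

namespace CfsgLib.PLocal.CoprimeQuad

open Subgroup
open CfsgLib.PLocal.QPair
open scoped MatrixGroups commutatorElement

universe u

variable {p : ℕ} [hp : Fact p.Prime]

section Lift

variable {H : Type u} [Group H] [Finite H] {A : Type u} [Group A] [Finite A] (φ : A →* MulAut H)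

/-- No subgroup fixed by the operators maps onto `PSL₂(p)`. -/
def NoSec (p : ℕ) [Fact p.Prime] {H : Type u} [Group H] {A : Type u} [Group A]
    (φ : A →* MulAut H) : Prop :=
  ∀ K : Subgroup H, (∀ k ∈ K, ∀ α, φ α k = k) →
    ∀ f : K →* Matrix.ProjectiveSpecialLinearGroup (Fin 2) (ZMod p), ¬ Function.Surjective f

theorem exists_fixed_lift (hcop : (Nat.card A).Coprime (Nat.card H)) {N : Subgroup H}
    (hN : ∀ α, ∀ n ∈ N, φ α n ∈ N) {g : H} (hg : ∀ α, g⁻¹ * φ α g ∈ N) :
    ∃ n ∈ N, ∀ α, φ α (g * n) = g * n := by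
  haveI : Finite (H ⋊[φ] A) := Finite.of_equiv _ SemidirectProduct.equivProd.symm
  let inl : H →* H ⋊[φ] A := SemidirectProduct.inl
  let inr : A →* H ⋊[φ] A := SemidirectProduct.inr
  have hconj : ∀ α n, inr α * inl n * (inr α)⁻¹ = inl (φ α n) := fun α n => by
    rw [← map_inv]; exact (SemidirectProduct.inl_aut α n).symm
  have hnorm : ∀ {S : Subgroup H}, (∀ α, ∀ n ∈ S, φ α n ∈ S) →
      inr.range ≤ normalizer (S.map inl : Set (H ⋊[φ] A)) := by
    intro S hS
    rintro _ ⟨α, rfl⟩
    rw [mem_normalizer_iff]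
    refine fun y => ⟨?_, fun hy => ?_⟩
    · rintro ⟨n, hn, rfl⟩
      exact ⟨φ α n, hS α n hn, (hconj α n).symm⟩
    · obtain ⟨n, hn, e⟩ := hy
      refine ⟨φ α⁻¹ n, hS _ n hn, ?_⟩
      rw [← hconj, e, map_inv]
      group
  have hA : inr.range ≤ normalizer ((inl.range : Subgroup (H ⋊[φ] A)) : Set (H ⋊[φ] A)) := by
    rw [MonoidHom.range_eq_map inl]
    exact hnorm fun _ _ _ => mem_top _
  have hs : Group.IsSolvable inr.range ∨ Group.IsSolvable (N.map inl) := by
    rcases Nat.even_or_odd (Nat.card A) with hev | hodd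
    · refine Or.inr (CfsgLib.Coprime.isSolvable_map _ (CfsgLib.FT.odd_order_solvable ?_))
      exact Nat.Coprime.odd_of_left ((hcop.coprime_dvd_left hev.two_dvd).coprime_dvd_right
        (card_subgroup_dvd_card N))
    · refine Or.inl (CfsgLib.FT.odd_order_solvable ?_)
      rw [← Nat.card_congr (MonoidHom.ofInjective SemidirectProduct.inr_injective).toEquiv]
      exact hodd
  obtain ⟨_, ⟨n, hn, rfl⟩, hc⟩ := CfsgLib.Coprime.exists_mem_centralizer_of_coset
    (G := inl.range) (N := N.map inl) hA (hnorm hN) (MonoidHom.range_eq_map inl ▸ map_mono le_top)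
    (by
      rw [← Nat.card_congr (MonoidHom.ofInjective SemidirectProduct.inr_injective).toEquiv,
        ← Nat.card_congr (MonoidHom.ofInjective SemidirectProduct.inl_injective).toEquiv]
      exact hcop)
    hs (⟨g, rfl⟩ : inl g ∈ inl.range) (by
      rintro _ ⟨α, rfl⟩
      refine ⟨g⁻¹ * φ α g, hg α, ?_⟩
      rw [map_mul, ← hconj, map_inv]
      simp only [mul_assoc])
  refine ⟨n, hn, fun α => SemidirectProduct.inl_injective (φ := φ) ?_⟩
  show inl (φ α (g * n)) = inl (g * n)
  have h1 := mem_centralizer_iff.1 hc (inr α) ⟨α, rfl⟩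
  rw [← hconj, map_mul, mul_inv_eq_iff_eq_mul]
  exact h1

variable (N : Subgroup H) [N.Normal] (hN : ∀ α, ∀ n ∈ N, φ α n ∈ N)

include hN in
theorem map_eq_of_invariant (α : A) : N.map (φ α).toMonoidHom = N :=
  le_antisymm (by rintro _ ⟨n, hn, rfl⟩; exact hN α n hn)
    fun n hn => ⟨φ α⁻¹ n, hN _ n hn, by
      show φ α (φ α⁻¹ n) = n
      rw [← MulAut.mul_apply, ← map_mul, mul_inv_cancel, map_one, MulAut.one_apply]⟩

/-- The action on an invariant quotient. -/
def quotAct : A →* MulAut (H ⧸ N) where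
  toFun α := QuotientGroup.congr N N (φ α) (map_eq_of_invariant φ N hN α)
  map_one' := MulEquiv.ext fun x => by
    induction x using QuotientGroup.induction_on with
    | H y => simp
  map_mul' α β := MulEquiv.ext fun x => by
    induction x using QuotientGroup.induction_on with
    | H y => simp [MulAut.mul_apply]; rfl

theorem quotAct_mk (α : A) (x : H) :
    quotAct φ N hN α (QuotientGroup.mk x) = QuotientGroup.mk (φ α x) := rfl

theorem noSec_quot (hcop : (Nat.card A).Coprime (Nat.card H)) (hno : NoSec p φ) :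
    NoSec p (quotAct φ N hN) := by
  intro K hK f hf
  let K' : Subgroup H :=
    { carrier := {h | (∀ α, φ α h = h) ∧ (QuotientGroup.mk h : H ⧸ N) ∈ K}
      one_mem' := ⟨fun α => map_one _, one_mem K⟩
      mul_mem' := fun {a b} ha hb => ⟨fun α => by rw [map_mul, ha.1, hb.1],
        by rw [QuotientGroup.mk_mul]; exact mul_mem ha.2 hb.2⟩
      inv_mem' := fun {a} ha => ⟨fun α => by rw [map_inv, ha.1],
        by rw [QuotientGroup.mk_inv]; exact inv_mem ha.2⟩ }
  let π : K' →* K := ((QuotientGroup.mk' N).comp K'.subtype).codRestrict K fun x => x.2.2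
  refine hno K' (fun k hk => hk.1) (f.comp π) (hf.comp fun y => ?_)
  obtain ⟨g, hg⟩ := QuotientGroup.mk_surjective (y : H ⧸ N)
  obtain ⟨n, hn, hfix⟩ := exists_fixed_lift φ hcop hN (g := g) fun α => by
    rw [← QuotientGroup.eq, ← quotAct_mk φ N hN α g, hg, hK _ y.2 α]
  have e : (QuotientGroup.mk (g * n) : H ⧸ N) = y := by
    rw [QuotientGroup.mk_mul_of_mem g hn, hg]
  exact ⟨⟨g * n, hfix, by rw [e]; exact y.2⟩, Subtype.ext e⟩

end Lift

section Minimal

variable {H : Type u} [Group H] [Finite H] {A : Type u} [Group A] [Finite A]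

/-- Automorphisms of an abelian group of exponent `p` as invertible linear maps. -/
def autGL (p : ℕ) (V : Type*) [CommGroup V] [Module (ZMod p) (Additive V)] :
    MulAut V →* LinearMap.GeneralLinearGroup (ZMod p) (Additive V) :=
  MonoidHom.toHomUnits (CfsgLib.PLocal.autRep p V)

theorem autGL_injective (V : Type*) [CommGroup V] [Module (ZMod p) (Additive V)] :
    Function.Injective (autGL p V) := fun e e' h =>
  CfsgLib.PLocal.autRep_injective V (congrArg Units.val h)

theorem slTwo_kills (h5 : 5 ≤ p) {S : Type*} [Group S] (f : SL(2, ZMod p) →* S)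
    (hk : f.ker ≤ center SL(2, ZMod p)) :
    ∃ g : f.range →* Matrix.ProjectiveSpecialLinearGroup (Fin 2) (ZMod p),
      Function.Surjective g := by
  let q : SL(2, ZMod p) →* Matrix.ProjectiveSpecialLinearGroup (Fin 2) (ZMod p) :=
    QuotientGroup.mk' _
  refine ⟨(QuotientGroup.lift f.ker q fun x hx => ?_).comp
    (QuotientGroup.quotientKerEquivRange f).symm.toMonoidHom, ?_⟩
  · exact (QuotientGroup.eq_one_iff x).2 (hk hx)
  · intro y
    obtain ⟨x, rfl⟩ := QuotientGroup.mk_surjective y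
    refine ⟨QuotientGroup.quotientKerEquivRange f (QuotientGroup.mk x), ?_⟩
    simp [q]
    rfl

theorem linear_core {M : Type u} [AddCommGroup M] [Module (ZMod p) M] [Finite M] (h5 : 5 ≤ p)
    (φ : A →* MulAut H) (hcop : (Nat.card A).Coprime (Nat.card H)) (hno : NoSec p φ)
    (π : H →* LinearMap.GeneralLinearGroup (ZMod p) M)
    (ψ : A →* LinearMap.GeneralLinearGroup (ZMod p) M)
    (heq : ∀ α h, ψ α * π h * (ψ α)⁻¹ = π (φ α h))
    (hO : Cfsg.pCore p π.range = ⊥) {a : H}
    (ha : ((π a : M →ₗ[ZMod p] M) - 1) * ((π a : M →ₗ[ZMod p] M) - 1) = 0) : π a = 1 := by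
  classical
  by_contra hne
  set G := π.range
  haveI : Finite (LinearMap.GeneralLinearGroup (ZMod p) M) := finite_gl
  have hroot : IsRoot G ((π a : M →ₗ[ZMod p] M) - 1) := by
    refine ⟨ha, fun c g hg => ⟨a ^ c.val, Units.ext ?_⟩⟩
    have key : ∀ n : ℕ, ((π a ^ n : LinearMap.GeneralLinearGroup (ZMod p) M) : M →ₗ[ZMod p] M) =
        1 + (n : ZMod p) • ((π a : M →ₗ[ZMod p] M) - 1) := by
      intro n
      induction n with
      | zero => simp
      | succ n ih =>
        rw [pow_succ, Units.val_mul, ih,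
          show (π a : M →ₗ[ZMod p] M) = 1 + ((π a : M →ₗ[ZMod p] M) - 1) by abel]
        simp only [add_sub_cancel_left, mul_add, add_mul, one_mul, mul_one, smul_mul_assoc, ha,
          smul_zero, add_zero, Nat.cast_succ, add_smul, one_smul]
        abel
    rw [map_pow, key, ZMod.natCast_zmod_val, hg]
  have h0 : (π a : M →ₗ[ZMod p] M) - 1 ≠ 0 := fun h => hne (Units.ext (sub_eq_zero.1 h))
  have hex : ∃ n, ∃ b, IsRoot G b ∧ b ≠ 0 ∧ QPair.rk b = n := ⟨_, _, hroot, h0, rfl⟩
  obtain ⟨b, hb, hb0, hbr⟩ := Nat.find_spec hex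
  have hmin : IsMin G b := ⟨hb, hb0, fun d hd hd0 => hbr ▸ Nat.find_min' hex ⟨d, hd, hd0, rfl⟩⟩
  have hA : ψ.range ≤ normalizer (G : Set (LinearMap.GeneralLinearGroup (ZMod p) M)) := by
    rintro _ ⟨α, rfl⟩
    rw [mem_normalizer_iff]
    refine fun y => ⟨?_, fun hy => ?_⟩
    · rintro ⟨h, rfl⟩
      exact ⟨φ α h, (heq α h).symm⟩
    · obtain ⟨h, e⟩ := hy
      refine ⟨φ α⁻¹ h, ?_⟩
      rw [← heq, e, map_inv]
      group
  have hcop' : (Nat.card ψ.range).Coprime (Nat.card G) :=
    (hcop.coprime_dvd_left (card_range_dvd ψ)).coprime_dvd_right (card_range_dvd π)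
  obtain ⟨f, hfG, hfA, hfk⟩ := exists_slHom_fixed h5 hO hmin hA hcop'
  obtain ⟨g, hg⟩ := slTwo_kills h5 f hfk
  let K : Subgroup H :=
    { carrier := {h | (∀ α, φ α h = h) ∧ π h ∈ f.range}
      one_mem' := ⟨fun α => map_one _, by rw [map_one]; exact one_mem _⟩
      mul_mem' := fun {x y} hx hy => ⟨fun α => by rw [map_mul, hx.1, hy.1],
        by rw [map_mul]; exact mul_mem hx.2 hy.2⟩
      inv_mem' := fun {x} hx => ⟨fun α => by rw [map_inv, hx.1],
        by rw [map_inv]; exact inv_mem hx.2⟩ }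
  let r : K →* f.range := (π.comp K.subtype).codRestrict f.range fun x => x.2.2
  refine hno K (fun k hk => hk.1) (g.comp r) (hg.comp ?_)
  rintro ⟨_, X, rfl⟩
  obtain ⟨h, hh⟩ := hfG X
  obtain ⟨n, hn, hfix⟩ := exists_fixed_lift φ hcop (N := π.ker) (g := h)
    (fun α n hn => by
      rw [MonoidHom.mem_ker] at hn ⊢
      rw [← heq, hn, mul_one, mul_inv_cancel])
    (fun α => by
      rw [MonoidHom.mem_ker, map_mul, map_inv, ← heq, hh, hfA (ψ α) ⟨α, rfl⟩ X,
        mul_inv_cancel_right, inv_mul_cancel])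
  have e : π (h * n) = f X := by rw [map_mul, hh, MonoidHom.mem_ker.1 hn, mul_one]
  exact ⟨⟨h * n, hfix, X, e.symm⟩, Subtype.ext e⟩

theorem autGL_quadratic {V : Type*} [CommGroup V] [Module (ZMod p) (Additive V)] (e : MulAut V)
    (h : ∀ v, e (e v / v) = e v / v) :
    ((autGL p V e : Additive V →ₗ[ZMod p] Additive V) - 1) *
      ((autGL p V e : Additive V →ₗ[ZMod p] Additive V) - 1) = 0 := by
  refine LinearMap.ext fun x => ?_
  show Additive.ofMul (e (e (Additive.toMul x) / Additive.toMul x) /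
    (e (Additive.toMul x) / Additive.toMul x)) = 0
  rw [h, div_self', ofMul_one]

/-- A quadratic element centralises a minimal invariant normal `p`-subgroup. -/
theorem mem_centralizer_of_minimal (h5 : 5 ≤ p) (φ : A →* MulAut H)
    (hcop : (Nat.card A).Coprime (Nat.card H)) (hno : NoSec p φ) {U : Subgroup H} [hUn : U.Normal]
    (hUinv : ∀ α, ∀ x ∈ U, φ α x ∈ U) (hU : Cfsg.IsElementaryAbelian p U)
    (hmin : ∀ F : Subgroup H, F.Normal → (∀ α, ∀ x ∈ F, φ α x ∈ F) → F ≤ U → F = ⊥ ∨ F = U)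
    {a : H} (hq : ⁅⁅U, zpowers a⁆, zpowers a⁆ = ⊥) : a ∈ centralizer (U : Set H) := by
  classical
  rcases eq_or_ne U ⊥ with hbot | hU0
  · rw [mem_centralizer_iff]
    intro x hx
    rw [hbot] at hx
    simp [mem_bot.1 hx]
  letI : CommGroup U := { (inferInstance : Group U) with mul_comm := fun x y => hU.1.1.comm x y }
  letI : Module (ZMod p) (Additive U) := AddCommGroup.zmodModule (n := p) fun x => by
    show Additive.ofMul ((Additive.toMul x) ^ p) = 0
    rw [show (Additive.toMul x) ^ p = 1 from Subtype.ext (hU.2 _ (Additive.toMul x).2), ofMul_one]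
  haveI : Finite (Additive U) := inferInstanceAs (Finite U)
  let cj : H →* MulAut U := MulAut.conjNormal
  let rst : A →* MulAut U :=
    { toFun := fun α =>
        { toFun := fun x => ⟨φ α x, hUinv α x x.2⟩
          invFun := fun x => ⟨φ α⁻¹ x, hUinv _ x x.2⟩
          left_inv := fun x => Subtype.ext (by
            show φ α⁻¹ (φ α x) = x
            rw [← MulAut.mul_apply, ← map_mul, inv_mul_cancel, map_one, MulAut.one_apply])
          right_inv := fun x => Subtype.ext (by
            show φ α (φ α⁻¹ x) = x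
            rw [← MulAut.mul_apply, ← map_mul, mul_inv_cancel, map_one, MulAut.one_apply])
          map_mul' := fun x y => Subtype.ext (map_mul (φ α) (x : H) y) }
      map_one' := MulEquiv.ext fun x => Subtype.ext (by simp)
      map_mul' := fun α β => MulEquiv.ext fun x => Subtype.ext (by simp [MulAut.mul_apply]) }
  let π := (autGL p U).comp cj
  let ψ := (autGL p U).comp rst
  have heq : ∀ α h, ψ α * π h * (ψ α)⁻¹ = π (φ α h) := by
    intro α h
    show autGL p U (rst α) * autGL p U (cj h) * (autGL p U (rst α))⁻¹ = autGL p U (cj (φ α h))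
    rw [← map_inv, ← map_mul, ← map_mul]
    refine congrArg _ ((mul_inv_eq_iff_eq_mul).2 (MulEquiv.ext fun x => Subtype.ext ?_))
    show φ α (h * (x : H) * h⁻¹) = φ α h * φ α x * (φ α h)⁻¹
    rw [map_mul, map_mul, map_inv]
  haveI : Finite (LinearMap.GeneralLinearGroup (ZMod p) (Additive U)) := finite_gl
  have hO : Cfsg.pCore p π.range = ⊥ := by
    by_contra hne
    set D := Cfsg.pCore p π.range
    haveI hDn : D.Normal := Cfsg.pCore_normal p _
    let F : Subgroup H :=
      { carrier := {x | ∃ hx : x ∈ U, ∀ d ∈ D, ∀ e : MulAut U, autGL p U e = (d : π.range) →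
          e ⟨x, hx⟩ = ⟨x, hx⟩}
        one_mem' := ⟨one_mem U, fun d _ e _ => map_one e⟩
        mul_mem' := fun {x y} ⟨hx, hx'⟩ ⟨hy, hy'⟩ => ⟨mul_mem hx hy, fun d hd e he => by
          rw [show (⟨x * y, mul_mem hx hy⟩ : U) = ⟨x, hx⟩ * ⟨y, hy⟩ from rfl, map_mul,
            hx' d hd e he, hy' d hd e he]⟩
        inv_mem' := fun {x} ⟨hx, hx'⟩ => ⟨inv_mem hx, fun d hd e he => by
          rw [show (⟨x⁻¹, inv_mem hx⟩ : U) = (⟨x, hx⟩ : U)⁻¹ from rfl, map_inv, hx' d hd e he]⟩ }
    -- invariance under an automorphism normalising `π.range`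
    have inv : ∀ (u : MulAut U) (σ : π.range ≃* π.range),
        (∀ d : π.range, ((σ d : π.range) : LinearMap.GeneralLinearGroup (ZMod p) (Additive U)) =
          autGL p U u * d * (autGL p U u)⁻¹) →
        ∀ x, (hx : x ∈ F) → ((u ⟨x, hx.1⟩ : U) : H) ∈ F := by
      rintro u σ hσ x ⟨hx, hx'⟩
      refine ⟨(u ⟨x, hx⟩).2, fun d hd e he => ?_⟩
      obtain ⟨d', hd', rfl⟩ : d ∈ D.map σ.toMonoidHom := by
        rw [CfsgLib.Solvable.map_pCore_equiv]; exact hd
      have h := hx' d' hd' (u⁻¹ * e * u) (by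
        rw [map_mul, map_mul, map_inv, he]
        show (autGL p U u)⁻¹ * ((σ d' : π.range) : LinearMap.GeneralLinearGroup (ZMod p)
          (Additive U)) * autGL p U u = _
        rw [hσ]
        group)
      have h2 : u ((u⁻¹ * e * u) ⟨x, hx⟩) = u ⟨x, hx⟩ := congrArg u h
      rw [← MulAut.mul_apply, ← mul_assoc, mul_inv_cancel_left] at h2
      exact h2
    have hFn : F.Normal := ⟨fun x hx g => by
      have h := inv (cj g) (MulAut.conj ⟨π g, g, rfl⟩) (fun d => rfl) x hx
      exact h⟩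
    have hFinv : ∀ α, ∀ x ∈ F, φ α x ∈ F := fun α x hx => by
      have hmem : ∀ d : π.range, ψ α * d * (ψ α)⁻¹ ∈ π.range := by
        rintro ⟨_, h, rfl⟩
        exact ⟨φ α h, (heq α h).symm⟩
      have hmem' : ∀ d : π.range, (ψ α)⁻¹ * d * ψ α ∈ π.range := by
        rintro ⟨_, h, rfl⟩
        refine ⟨φ α⁻¹ h, ?_⟩
        rw [← heq, map_inv, inv_inv]
      let σ : π.range ≃* π.range :=
        { toFun := fun d => ⟨_, hmem d⟩
          invFun := fun d => ⟨_, hmem' d⟩
          left_inv := fun d => Subtype.ext (by simp [mul_assoc])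
          right_inv := fun d => Subtype.ext (by simp [mul_assoc])
          map_mul' := fun d d' => Subtype.ext (by simp [mul_assoc]) }
      exact inv (rst α) σ (fun d => rfl) x hx
    have hFU : F ≤ U := fun x hx => hx.1
    rcases hmin F hFn hFinv hFU with h | h
    · -- a `p`-group has a non-trivial fixed point
      let DU : Subgroup (MulAut U) := (D.map π.range.subtype).comap (autGL p U)
      have hDU : IsPGroup p DU := ((CfsgLib.Solvable.pCore_isPGroup p).map _).comap_of_injective _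
        (autGL_injective U)
      have hUp : IsPGroup p U := fun x => ⟨1, Subtype.ext (by simpa using hU.2 _ x.2)⟩
      have hdvd : p ∣ Nat.card U := by
        obtain ⟨k, hk⟩ := hUp.exists_card_eq
        rcases Nat.eq_zero_or_pos k with rfl | hk0
        · exact absurd (eq_bot_of_card_eq U (by simpa using hk)) hU0
        · rw [hk]; exact dvd_pow_self p hk0.ne'
      obtain ⟨⟨x, hxU⟩, hxfix, hx1⟩ := hDU.exists_fixed_point_of_prime_dvd_card_of_fixed_point
        (α := U) hdvd (a := 1) (fun d => map_one (d : MulAut U))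
      have hxF : x ∈ F := ⟨hxU, fun d hd e he => hxfix
        ⟨e, show autGL p U e ∈ D.map π.range.subtype from ⟨d, hd, he.symm⟩⟩⟩
      rw [h, mem_bot] at hxF
      exact hx1 (Subtype.ext hxF.symm)
    · obtain ⟨⟨d, hd⟩, hd1⟩ := ne_bot_iff_exists_ne_one.1 hne
      obtain ⟨g, hg⟩ := d.2
      refine hd1 (Subtype.ext (Subtype.ext ?_))
      show (d : LinearMap.GeneralLinearGroup (ZMod p) (Additive U)) = 1
      rw [← hg]
      show autGL p U (cj g) = 1
      rw [show cj g = 1 from MulEquiv.ext fun x => ?_, map_one]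
      obtain ⟨_, hx'⟩ := (h.symm.le x.2 : (x : H) ∈ F)
      exact hx' d hd (cj g) hg
  have hd : ∀ v : U, cj a (cj a v / v) = cj a v / v := fun v => by
    have huG : ((cj a v / v : U) : H) ∈ ⁅U, zpowers a⁆ := by
      have e : ((cj a v / v : U) : H) = ⁅a, (v : H)⁆ := by
        show ((cj a v : U) : H) / _ = _
        rw [div_eq_mul_inv, commutatorElement_def]
        rfl
      rw [e, commutator_comm]
      exact commutator_mem_commutator (mem_zpowers _) v.2
    have h1 := commutator_mem_commutator huG (mem_zpowers a)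
    rw [hq, mem_bot, commutatorElement_eq_one_iff_mul_comm] at h1
    refine Subtype.ext ?_
    show a * ((cj a v / v : U) : H) * a⁻¹ = _
    rw [← h1, mul_inv_cancel_right]
  have h1 := linear_core h5 φ hcop hno π ψ heq hO (autGL_quadratic (cj a) hd)
  rw [mem_centralizer_iff]
  intro x hx
  have h2 : cj a = 1 := autGL_injective U (h1.trans (map_one _).symm)
  have h3 : a * x * a⁻¹ = x :=
    congrArg (fun u : U => (u : H)) (DFunLike.congr_fun h2 (⟨x, hx⟩ : U))
  exact (mul_inv_eq_iff_eq_mul.1 h3).symm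

end Minimal

/-- **Stability.** -/
theorem isPStableOn_of_noSec (h5 : 5 ≤ p) {A : Type u} [Group A] [Finite A] :
    ∀ (n : ℕ) {H : Type u} [Group H] [Finite H] (φ : A →* MulAut H),
      (Nat.card A).Coprime (Nat.card H) → NoSec p φ →
      ∀ (B : Subgroup H) [B.Normal], Nat.card B ≤ n → (∀ α, ∀ x ∈ B, φ α x ∈ B) → IsPGroup p B →
        Cfsg.IsPStableOn p B := by
  intro n
  induction n with
  | zero =>
    intro H _ _ φ _ _ B _ hn
    exact absurd hn (Nat.not_le.2 Nat.card_pos)
  | succ n ih =>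
    intro H _ _ φ hcop hno B _ hn hBinv hBp a hq
    classical
    rcases eq_or_ne B ⊥ with rfl | hB0
    · haveI : Subsingleton (H ⧸ centralizer ((⊥ : Subgroup H) : Set H)) := by
        refine QuotientGroup.subsingleton_iff.2 (eq_top_iff.2 fun x _ => mem_centralizer_iff.2 ?_)
        intro y hy
        simp [mem_bot.1 (SetLike.mem_coe.1 hy)]
      rw [Subsingleton.elim (QuotientGroup.mk a : H ⧸ centralizer ((⊥ : Subgroup H) : Set H)) 1]
      exact one_mem _
    -- a minimal invariant normal subgroup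
    let P : Subgroup H → Prop := fun F => F.Normal ∧ (∀ α, ∀ x ∈ F, φ α x ∈ F) ∧ F ≤ B ∧ F ≠ ⊥
    have hex : ∃ m, ∃ F, P F ∧ Nat.card F = m := ⟨_, B, ⟨inferInstance, hBinv, le_rfl, hB0⟩, rfl⟩
    obtain ⟨U₁, ⟨hn1, hi1, hle1, hne1⟩, hc1⟩ := Nat.find_spec hex
    have hmin : ∀ F : Subgroup H, F.Normal → (∀ α, ∀ x ∈ F, φ α x ∈ F) → F ≤ U₁ →
        F = ⊥ ∨ F = U₁ := by
      intro F hF hFi hle
      rcases eq_or_ne F ⊥ with h | h
      · exact Or.inl h
      · exact Or.inr (eq_of_le_of_card_ge hle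
          (hc1.le.trans (Nat.find_min' hex ⟨F, ⟨hF, hFi, hle.trans hle1, h⟩, rfl⟩)))
    haveI := hn1
    have hp1 : IsPGroup p U₁ := hBp.to_le hle1
    -- it is elementary abelian
    have hab : ∀ x ∈ U₁, ∀ y ∈ U₁, x * y = y * x := by
      let Z : Subgroup H := U₁ ⊓ centralizer (U₁ : Set H)
      haveI : Z.Normal := inferInstance
      have hZi : ∀ α, ∀ x ∈ Z, φ α x ∈ Z := fun α x hx => ⟨hi1 α x hx.1, fun y hy => by
        have h := congrArg (φ α) (hx.2 (φ α⁻¹ y) (hi1 _ y hy))
        rwa [map_mul, map_mul, ← MulAut.mul_apply, ← map_mul, mul_inv_cancel, map_one,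
          MulAut.one_apply] at h⟩
      have hZ : Z ≠ ⊥ := by
        haveI : Nontrivial U₁ := (nontrivial_iff_ne_bot U₁).2 hne1
        haveI := hp1.center_nontrivial
        obtain ⟨⟨⟨x, hx⟩, hxc⟩, hx1⟩ := exists_ne (1 : center U₁)
        refine fun h => hx1 ?_
        have hz : x ∈ Z := ⟨hx, fun y hy => congrArg Subtype.val (mem_center_iff.1 hxc ⟨y, hy⟩)⟩
        rw [h, mem_bot] at hz
        exact Subtype.ext (Subtype.ext hz)
      rcases hmin Z inferInstance hZi inf_le_left with h | h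
      · exact absurd h hZ
      · exact fun x hx y hy => ((h.ge hy).2 x hx)
    have hexp : ∀ x ∈ U₁, x ^ p = 1 := by
      let O : Subgroup H :=
        { carrier := {x | x ∈ U₁ ∧ x ^ p = 1}
          one_mem' := ⟨one_mem _, one_pow _⟩
          mul_mem' := fun {x y} hx hy => ⟨mul_mem hx.1 hy.1, by
            rw [(show Commute x y from hab x hx.1 y hy.1).mul_pow, hx.2, hy.2, one_mul]⟩
          inv_mem' := fun {x} hx => ⟨inv_mem hx.1, by rw [inv_pow, hx.2, inv_one]⟩ }
      have hOn : O.Normal := ⟨fun x hx g => ⟨hn1.conj_mem x hx.1 g, by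
        rw [conj_pow, hx.2, mul_one, mul_inv_cancel]⟩⟩
      have hOi : ∀ α, ∀ x ∈ O, φ α x ∈ O := fun α x hx => ⟨hi1 α x hx.1, by
        rw [← map_pow, hx.2, map_one]⟩
      have hO : O ≠ ⊥ := by
        obtain ⟨k, hk⟩ := hp1.exists_card_eq
        have hdvd : p ∣ Nat.card U₁ := by
          rcases Nat.eq_zero_or_pos k with rfl | hk0
          · exact absurd (eq_bot_of_card_eq U₁ (by simpa using hk)) hne1
          · rw [hk]; exact dvd_pow_self p hk0.ne'
        obtain ⟨⟨x, hx⟩, hox⟩ := exists_prime_orderOf_dvd_card' (G := U₁) p hdvd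
        intro h
        have hxO : x ∈ O := ⟨hx, by
          rw [← hox, ← Subgroup.orderOf_coe]; exact pow_orderOf_eq_one x⟩
        rw [h, mem_bot] at hxO
        subst hxO
        exact hp.out.one_lt.ne (by rw [← hox]; exact orderOf_one.symm)
      rcases hmin O hOn hOi (fun x hx => hx.1) with h | h
      · exact absurd h hO
      · exact fun x hx => (h.ge hx).2
    have hel : Cfsg.IsElementaryAbelian p U₁ :=
      ⟨⟨⟨fun x y => Subtype.ext (hab x x.2 y y.2)⟩⟩, hexp⟩
    have hqU : ⁅⁅U₁, zpowers a⁆, zpowers a⁆ = ⊥ :=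
      eq_bot_iff.2 (hq ▸ commutator_mono (commutator_mono hle1 le_rfl) le_rfl)
    have haU := mem_centralizer_of_minimal h5 φ hcop hno hi1 hel hmin hqU
    -- the quotient
    set q := QuotientGroup.mk' U₁ with hqdef
    haveI : (B.map q).Normal := Normal.map inferInstance q (QuotientGroup.mk'_surjective U₁)
    have hlt : Nat.card (B.map q) ≤ n := by
      have h1 : Nat.card (B.map q) ≤ Nat.card B :=
        Nat.card_le_card_of_surjective (q.subgroupMap B) (q.subgroupMap_surjective B)
      refine Nat.lt_succ_iff.1 (lt_of_lt_of_le (lt_of_le_of_ne h1 fun e => hne1 ?_) hn)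
      have hinj := ((Nat.bijective_iff_surjective_and_card (q.subgroupMap B)).2
        ⟨q.subgroupMap_surjective B, e.symm⟩).1
      refine (Subgroup.eq_bot_iff_forall _).2 fun u hu => ?_
      have h3 := @hinj ⟨u, hle1 hu⟩ 1 (Subtype.ext (by
        show q u = q 1
        rw [map_one]
        exact (QuotientGroup.eq_one_iff u).2 hu))
      exact congrArg Subtype.val h3
    have hBi : ∀ α, ∀ x ∈ B.map q, quotAct φ U₁ hi1 α x ∈ B.map q := by
      rintro α _ ⟨b, hb, rfl⟩
      exact ⟨φ α b, hBinv α b hb, rfl⟩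
    have hcop' : (Nat.card A).Coprime (Nat.card (H ⧸ U₁)) :=
      hcop.coprime_dvd_right (card_quotient_dvd_card U₁)
    have hq' : ⁅⁅B.map q, zpowers (q a)⁆, zpowers (q a)⁆ = ⊥ := by
      rw [← MonoidHom.map_zpowers, ← Subgroup.map_commutator, ← Subgroup.map_commutator, hq,
        Subgroup.map_bot]
    have h1 := ih (quotAct φ U₁ hi1) hcop' (noSec_quot φ U₁ hi1 hcop hno) (B.map q) hlt hBi
      (hBp.map q) (q a) hq'
    set C := centralizer (B : Set H)
    set C' := centralizer ((B.map q : Subgroup (H ⧸ U₁)) : Set (H ⧸ U₁))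
    haveI := Cfsg.pCore_normal p ((H ⧸ U₁) ⧸ C')
    let D : Subgroup H :=
      (Cfsg.pCore p ((H ⧸ U₁) ⧸ C')).comap ((QuotientGroup.mk' C').comp q) ⊓
        centralizer (U₁ : Set H)
    haveI hDn : D.Normal :=
      @Subgroup.normal_inf_normal _ _ _ _ (Normal.comap inferInstance _) inferInstance
    have hDp : IsPGroup p (D.map (QuotientGroup.mk' C)) := by
      rintro ⟨_, d, hd, rfl⟩
      obtain ⟨k, hk⟩ := CfsgLib.Solvable.pCore_isPGroup (G := (H ⧸ U₁) ⧸ C') p ⟨_, hd.1⟩
      refine ⟨k + 1, Subtype.ext ?_⟩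
      show (QuotientGroup.mk' C d) ^ p ^ (k + 1) = 1
      rw [← map_pow, QuotientGroup.mk'_apply, QuotientGroup.eq_one_iff]
      set e := d ^ p ^ k with he
      have he1 : q e ∈ C' := by
        refine (QuotientGroup.eq_one_iff _).1 ?_
        have := congrArg Subtype.val hk
        rw [← QuotientGroup.mk'_apply, he, map_pow, map_pow]
        simpa using this
      have he2 : e ∈ centralizer (U₁ : Set H) := pow_mem hd.2 _
      rw [pow_succ, pow_mul, ← he, mem_centralizer_iff]
      intro b hb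
      set c := e * b * e⁻¹ * b⁻¹ with hc
      have hcU : c ∈ U₁ := by
        rw [← QuotientGroup.eq_one_iff]
        show q c = 1
        rw [hc, map_mul, map_mul, map_mul, map_inv, map_inv,
          ← mem_centralizer_iff.1 he1 (q b) ⟨b, hb, rfl⟩, mul_inv_cancel_right, mul_inv_cancel]
      have hstep : ∀ m : ℕ, e ^ m * b * (e ^ m)⁻¹ = c ^ m * b := by
        intro m
        induction m with
        | zero => simp
        | succ m ihm =>
          have hce : e * c ^ m = c ^ m * e :=
            (mem_centralizer_iff.1 he2 _ (pow_mem hcU m)).symm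
          calc e ^ (m + 1) * b * (e ^ (m + 1))⁻¹ = e * (e ^ m * b * (e ^ m)⁻¹) * e⁻¹ := by
                rw [pow_succ']; group
            _ = e * c ^ m * b * e⁻¹ := by rw [ihm]; group
            _ = c ^ m * (e * b * e⁻¹ * b⁻¹) * b := by rw [hce]; group
            _ = c ^ (m + 1) * b := by rw [← hc, pow_succ]
      have := hstep p
      rw [hexp c hcU, one_mul, mul_inv_eq_iff_eq_mul] at this
      exact this.symm
    exact CfsgLib.Solvable.le_pCore (hDn.map _ (QuotientGroup.mk'_surjective C)) hDp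
      ⟨a, ⟨h1, haU⟩, rfl⟩

end CfsgLib.PLocal.CoprimeQuad
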