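import Cfsg.Agent.Lib.PLocal.CoprimeQuad.Class
import Cfsg.Agent.Lib.Coprime.Action

/-!
# The stabiliser of the layers of a root element is transitive on its inverses
-/

set_option autoImplicit false

namespace CfsgLib.PLocal.CoprimeQuad

open CfsgLib.PLocal.QPair
open scoped MatrixGroups

universe v

variable {p : ℕ} [hp : Fact p.Prime] {M : Type v} [AddCommGroup M] [Module (ZMod p) M]

local notation "GLk" => LinearMap.GeneralLinearGroup (ZMod p) M
local notation "𝔈" => M →ₗ[ZMod p] M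
local notation "𝕜" => ZMod p

/-- `g` is `s`, `1`, `s⁻¹` on the three layers of `P ≤ K`. -/
structure Lay (P K : Submodule 𝕜 M) (s : 𝕜) (g : GLk) : Prop where
  onP : ∀ m ∈ P, (g : 𝔈) m = s • m
  top : ∀ m, (g : 𝔈) m - s⁻¹ • m ∈ K
  mid : ∀ m ∈ K, (g : 𝔈) m - m ∈ P

variable {P K : Submodule (ZMod p) M}

theorem Lay.one : Lay P K 1 (1 : GLk) :=
  ⟨fun m _ => by simp, fun m => by simp, fun m _ => by simp⟩

theorem Lay.mul {s t : 𝕜} {g h : GLk} (hg : Lay P K s g) (hh : Lay P K t h) :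
    Lay P K (s * t) (g * h) := by
  refine ⟨fun m hm => ?_, fun m => ?_, fun m hm => ?_⟩
  · rw [Units.val_mul, Module.End.mul_apply, hh.onP m hm, map_smul, hg.onP m hm, smul_smul,
      mul_comm t]
  · have e : ((g * h : GLk) : 𝔈) m - (s * t)⁻¹ • m =
        ((g : 𝔈) ((h : 𝔈) m) - s⁻¹ • (h : 𝔈) m) + s⁻¹ • ((h : 𝔈) m - t⁻¹ • m) := by
      rw [Units.val_mul, Module.End.mul_apply, smul_sub, smul_smul, mul_inv]
      abel
    rw [e]
    exact add_mem (hg.top _) (K.smul_mem _ (hh.top m))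
  · have e : ((g * h : GLk) : 𝔈) m - m =
        (g : 𝔈) ((h : 𝔈) m - m) + ((g : 𝔈) m - m) := by
      rw [Units.val_mul, Module.End.mul_apply, map_sub]
      abel
    rw [e]
    refine add_mem ?_ (hg.mid m hm)
    rw [hg.onP _ (hh.mid m hm)]
    exact P.smul_mem _ (hh.mid m hm)

theorem Lay.pow {g : GLk} (hg : Lay P K 1 g) : ∀ n : ℕ, Lay P K 1 (g ^ n)
  | 0 => by rw [pow_zero]; exact Lay.one
  | n + 1 => by
    rw [pow_succ, ← mul_one (1 : 𝕜)]
    exact (Lay.pow hg n).mul hg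

theorem Lay.eq_of {s t : 𝕜} {g : GLk} (hg : Lay P K s g) (hg' : Lay P K t g) (hP : P ≠ ⊥) :
    s = t := by
  obtain ⟨m, hm, hm0⟩ := Submodule.exists_mem_ne_zero_of_ne_bot hP
  exact smul_left_injective 𝕜 hm0 ((hg.onP m hm).symm.trans (hg'.onP m hm))

variable [Finite M]

theorem finite_gl : Finite GLk :=
  Finite.of_injective (fun g : GLk => ((g : 𝔈) : M → M)) fun _ _ h => Units.ext (DFunLike.coe_injective h)

/-- The elements of `G` trivial on the three layers of `P ≤ K`. -/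
def layU (G : Subgroup GLk) (P K : Submodule 𝕜 M) : Subgroup GLk where
  carrier := {g | g ∈ G ∧ Lay P K 1 g}
  one_mem' := ⟨one_mem G, Lay.one⟩
  mul_mem' := fun {g h} hg hh => ⟨mul_mem hg.1 hh.1, by simpa using hg.2.mul hh.2⟩
  inv_mem' := fun {g} hg => by
    haveI : Finite GLk := finite_gl
    refine ⟨inv_mem hg.1, ?_⟩
    obtain ⟨n, hn, hgn⟩ := isOfFinOrder_iff_pow_eq_one.1 (isOfFinOrder_of_finite g)
    have e : g⁻¹ = g ^ (n - 1) := inv_eq_of_mul_eq_one_right (by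
      rw [← pow_succ', Nat.sub_add_cancel hn, hgn])
    rw [e]
    exact hg.2.pow _

variable {G : Subgroup (LinearMap.GeneralLinearGroup (ZMod p) M)}

theorem mem_layU {g : GLk} : g ∈ layU G P K ↔ g ∈ G ∧ Lay P K 1 g := Iff.rfl

theorem layU_le : layU G P K ≤ G := fun _ hg => hg.1

theorem isPGroup_layU (h5 : 5 ≤ p) {a : 𝔈} (ha : a ≠ 0) :
    IsPGroup p (layU G P K) := by
  rintro ⟨g, -, hg⟩
  refine ⟨3, Subtype.ext (pow_eq_one_of_isNilpotent ha ?_)⟩
  refine LinearMap.ext fun m => ?_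
  have h1 := hg.top m
  rw [inv_one, one_smul] at h1
  have h2 := hg.mid _ h1
  have h3 := hg.onP _ h2
  rw [one_smul] at h3
  simp only [pow_succ, pow_zero, one_mul, Module.End.mul_apply, LinearMap.sub_apply,
    Module.End.one_apply, LinearMap.zero_apply]
  rw [h3, sub_self]

/-- The diagonal matrices of `SL₂`. -/
def dgHom : 𝕜ˣ →* SL(2, 𝕜) where
  toFun s := ⟨!![(s : 𝕜), 0; 0, ((s⁻¹ : 𝕜ˣ) : 𝕜)], by rw [Matrix.det_fin_two_of, mul_zero, sub_zero, Units.mul_inv]⟩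
  map_one' := Subtype.ext (by
    show !![((1 : 𝕜ˣ) : 𝕜), 0; 0, (((1 : 𝕜ˣ)⁻¹ : 𝕜ˣ) : 𝕜)] = (1 : Matrix (Fin 2) (Fin 2) 𝕜)
    rw [inv_one, Units.val_one, Matrix.one_fin_two])
  map_mul' s t := Subtype.ext (by
    show !![((s * t : 𝕜ˣ) : 𝕜), 0; 0, (((s * t)⁻¹ : 𝕜ˣ) : 𝕜)] =
      !![(s : 𝕜), 0; 0, ((s⁻¹ : 𝕜ˣ) : 𝕜)] * !![(t : 𝕜), 0; 0, ((t⁻¹ : 𝕜ˣ) : 𝕜)]
    rw [Matrix.mul_fin_two, Units.val_mul, mul_inv, Units.val_mul]
    simp only [mul_zero, zero_mul, add_zero, zero_add])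

/-- The torus of an inverse pair. -/
def tor {a c : 𝔈} (h : InvPair a c) : 𝕜ˣ →* GLk := (slHom h).comp dgHom

theorem tor_coe {a c : 𝔈} (h : InvPair a c) (s : 𝕜ˣ) :
    ((tor h s : GLk) : 𝔈) =
      1 + ((s : 𝕜) - 1) • (a * c) + (((s⁻¹ : 𝕜ˣ) : 𝕜) - 1) • (c * a) := by
  show matEnd a c !![(s : 𝕜), 0; 0, ((s⁻¹ : 𝕜ˣ) : 𝕜)] = _
  simp only [matEnd, Matrix.cons_val', Matrix.cons_val_zero, Matrix.cons_val_one,
    Matrix.of_apply, Matrix.empty_val', Matrix.cons_val_fin_one, sub_smul, zero_smul, one_smul,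
    add_zero]
  abel

theorem tor_lay {a c : 𝔈} (h : InvPair a c) (s : 𝕜ˣ) :
    Lay (LinearMap.range a) (LinearMap.ker a) (s : 𝕜) (tor h s) := by
  obtain ⟨t1, t2, t3, t4, t5, t6, t7, t8, t9, t10, t11, t12⟩ := table h
  have hleft : ((tor h s : GLk) : 𝔈) * a = (s : 𝕜) • a := by
    rw [tor_coe, add_mul, add_mul, one_mul, smul_mul_assoc, smul_mul_assoc, t5, t8, smul_zero,
      sub_smul, one_smul]
    abel
  have hright : a * ((tor h s : GLk) : 𝔈) = ((s : 𝕜)⁻¹) • a := by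
    rw [tor_coe, mul_add, mul_add, mul_one, mul_smul_comm, mul_smul_comm, t7, t6, smul_zero,
      sub_smul, one_smul, Units.val_inv_eq_inv_val]
    abel
  refine ⟨?_, fun m => ?_, fun m hm => ?_⟩
  · rintro _ ⟨m, rfl⟩
    exact LinearMap.congr_fun hleft m
  · rw [LinearMap.mem_ker, map_sub, map_smul, sub_eq_zero]
    exact LinearMap.congr_fun hright m
  · rw [tor_coe]
    refine ⟨((s : 𝕜) - 1) • c m, ?_⟩
    simp only [LinearMap.add_apply, LinearMap.smul_apply, Module.End.one_apply,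
      Module.End.mul_apply, map_smul, LinearMap.mem_ker.1 hm, map_zero, smul_zero]
    abel

theorem conjE_eq_self_of_lay {a : 𝔈} (ha : a * a = 0) {g : GLk}
    (hg : Lay (LinearMap.range a) (LinearMap.ker a) 1 g) : conjE g a = a := by
  refine (conjE_eq_iff g a).2 (LinearMap.ext fun m => ?_)
  have h1 := hg.top m
  rw [inv_one, one_smul, LinearMap.mem_ker, map_sub, sub_eq_zero] at h1
  rw [Module.End.mul_apply, Module.End.mul_apply, h1, hg.onP _ (LinearMap.mem_range_self a m),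
    one_smul]

theorem conjE_poly {a c : 𝔈} (h : InvPair a c) (s : 𝕜) (t : 𝕜) {g : 𝔈}
    (hg : g = 1 + (s - 1) • (a * c) + (t - 1) • (c * a)) :
    (g - 1) * (g - s • 1) = ((t - 1) * (t - s)) • (c * a) ∧
      (g - 1) * (g - t • 1) = ((s - 1) * (s - t)) • (a * c) := by
  obtain ⟨t1, t2, t3, t4, t5, t6, t7, t8, t9, t10, t11, t12⟩ := table h
  subst hg
  constructor <;>
    simp only [add_sub_cancel_left, mul_add, add_mul, mul_sub, sub_mul, mul_one, one_mul,
      smul_mul_assoc, mul_smul_comm, smul_smul, t1, t2, t3, t4, smul_zero] <;> module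

/-- Any two inverses of `a` are conjugate under the elements fixing the layers of `a`. -/
theorem exists_conj_inverse (h5 : 5 ≤ p) {a c c' : 𝔈} (ha : IsRoot G a) (ha0 : a ≠ 0)
    (hc : IsRoot G c) (hc' : IsRoot G c') (h : InvPair a c) (h' : InvPair a c') :
    ∃ n ∈ layU G (LinearMap.range a) (LinearMap.ker a), conjE n c = c' := by
  haveI : Finite GLk := finite_gl
  set P := LinearMap.range a
  set K := LinearMap.ker a
  set U := layU G P K
  have hP : P ≠ ⊥ := fun e => ha0 (LinearMap.range_eq_bot.1 e)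
  set s : 𝕜ˣ := Units.mk0 2 (two_ne h5) with hs
  have hs2 : (s : 𝕜) = 2 := rfl
  set g := tor h s with hg
  set g' := tor h' s with hg'
  have hgG : ∀ {c : 𝔈} (h : InvPair a c), IsRoot G c → ∀ u : 𝕜ˣ, tor h u ∈ G :=
    fun h hc u => slHom_mem h ha hc _
  have hnorm : ∀ {c : 𝔈} (h : InvPair a c), IsRoot G c →
      Subgroup.zpowers (tor h s) ≤ Subgroup.normalizer (U : Set GLk) := by
    intro c h hc
    rw [Subgroup.zpowers_le, Subgroup.mem_normalizer_iff]
    have key : ∀ (u : 𝕜ˣ) (x : GLk), x ∈ U → tor h u * x * (tor h u)⁻¹ ∈ U := fun u x hx => by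
      refine ⟨mul_mem (mul_mem (hgG h hc u) hx.1) (inv_mem (hgG h hc u)), ?_⟩
      have := ((tor_lay h u).mul hx.2).mul (tor_lay h u⁻¹)
      rw [mul_one, Units.val_inv_eq_inv_val, mul_inv_cancel₀ (Units.ne_zero u), map_inv] at this
      exact this
    refine fun x => ⟨key s x, fun hx => ?_⟩
    have := key s⁻¹ _ hx
    simpa [map_inv, mul_assoc] using this
  have hdiff : g⁻¹ * g' ∈ U := by
    refine ⟨mul_mem (inv_mem (hgG h hc s)) (hgG h' hc' s), ?_⟩
    have := (tor_lay h s⁻¹).mul (tor_lay h' s)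
    rw [Units.val_inv_eq_inv_val, inv_mul_cancel₀ (Units.ne_zero s), map_inv] at this
    exact this
  have hsup : U ⊔ Subgroup.zpowers g = U ⊔ Subgroup.zpowers g' := by
    refine le_antisymm (sup_le le_sup_left ?_) (sup_le le_sup_left ?_) <;> rw [Subgroup.zpowers_le]
    · have := mul_mem (Subgroup.mem_sup_right (S := U) (Subgroup.mem_zpowers g'))
        (inv_mem (Subgroup.mem_sup_left (T := Subgroup.zpowers g') hdiff))
      rwa [mul_inv_rev, inv_inv, mul_inv_cancel_left] at this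
    · have := mul_mem (Subgroup.mem_sup_right (S := U) (Subgroup.mem_zpowers g))
        (Subgroup.mem_sup_left (T := Subgroup.zpowers g) hdiff)
      rwa [mul_inv_cancel_left] at this
  obtain ⟨k, hk⟩ := (isPGroup_layU (G := G) (P := P) (K := K) h5 ha0).exists_card_eq
  have hcop : ∀ {c : 𝔈} (h : InvPair a c),
      (Nat.card (Subgroup.zpowers (tor h s))).Coprime (Nat.card U) := by
    intro c h
    rw [hk, Nat.card_zpowers]
    refine Nat.Coprime.pow_right _ (Nat.Coprime.coprime_dvd_left ?_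
      ((Nat.coprime_self_sub_left hp.out.one_le).2 (Nat.coprime_one_left p)))
    refine (orderOf_map_dvd (tor h) s).trans (orderOf_dvd_of_pow_eq_one ?_)
    exact ZMod.units_pow_card_sub_one_eq_one p s
  obtain ⟨n, hn, hB⟩ := CfsgLib.Coprime.exists_conj_eq_of_coprime (hnorm h hc) (hnorm h' hc') hsup
    (hcop h) (hcop h') (Or.inl inferInstance)
  refine ⟨n, hn, ?_⟩
  have hmem : n * g * n⁻¹ ∈ Subgroup.zpowers g' := by
    rw [hB]; exact ⟨g, Subgroup.mem_zpowers g, rfl⟩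
  obtain ⟨i, hi⟩ := Subgroup.mem_zpowers_iff.1 hmem
  have hlay : Lay P K (s : 𝕜) (n * g * n⁻¹) := by
    have := (hn.2.mul (tor_lay h s)).mul (inv_mem hn : n⁻¹ ∈ U).2
    rwa [one_mul, mul_one] at this
  have hi' : g' ^ i = tor h' (s ^ i) := (map_zpow (tor h') s i).symm
  rw [← hi, hi'] at hlay
  have hsi : (s ^ i : 𝕜ˣ) = s := Units.ext ((tor_lay h' (s ^ i)).eq_of hlay hP)
  rw [hi', hsi] at hi
  -- `n` carries the idempotents of `c` to those of `c'`
  have hgn : conjE n (g : 𝔈) = (g' : 𝔈) :=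
    (congrArg (fun u : GLk => (u : 𝔈)) hi.symm).trans rfl
  obtain ⟨p1, p2⟩ := conjE_poly h (s : 𝕜) ((s⁻¹ : 𝕜ˣ) : 𝕜) (tor_coe h s)
  obtain ⟨q1, q2⟩ := conjE_poly h' (s : 𝕜) ((s⁻¹ : 𝕜ˣ) : 𝕜) (tor_coe h' s)
  have ne1 : (2 : 𝕜) ≠ 0 := two_ne h5
  have ne3 : (3 : 𝕜) ≠ 0 := by
    intro h
    have h' : ((3 : ℕ) : ZMod p) = 0 := by exact_mod_cast h
    rw [ZMod.natCast_eq_zero_iff] at h'
    have := Nat.le_of_dvd (by norm_num) h'
    omega
  have cf : (((s⁻¹ : 𝕜ˣ) : 𝕜) - 1) * (((s⁻¹ : 𝕜ˣ) : 𝕜) - (s : 𝕜)) ≠ 0 := by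
    rw [Units.val_inv_eq_inv_val, hs2]
    have : ((2 : 𝕜)⁻¹ - 1) * (2⁻¹ - 2) * (2 * 2) = 3 := by field_simp; ring
    intro h0
    rw [h0, zero_mul] at this
    exact ne3 this.symm
  have ce : ((s : 𝕜) - 1) * ((s : 𝕜) - ((s⁻¹ : 𝕜ˣ) : 𝕜)) ≠ 0 := by
    rw [Units.val_inv_eq_inv_val, hs2]
    have : ((2 : 𝕜) - 1) * (2 - 2⁻¹) * 2 = 3 := by field_simp; ring
    intro h0
    rw [h0, zero_mul] at this
    exact ne3 this.symm
  have hf : conjE n (c * a) = c' * a := smul_right_injective 𝔈 cf (by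
    dsimp only
    rw [← conjE_smul, ← p1, ← q1, conjE_mul, conjE_sub, conjE_sub, conjE_smul, conjE_one', hgn])
  have he : conjE n (a * c) = a * c' := smul_right_injective 𝔈 ce (by
    dsimp only
    rw [← conjE_smul, ← p2, ← q2, conjE_mul, conjE_sub, conjE_sub, conjE_smul, conjE_one', hgn])
  have hna : conjE n a = a := conjE_eq_self_of_lay h.zz hn.2
  rw [conjE_mul, hna] at hf he
  calc conjE n c = conjE n (c * a * c) := by rw [h.czc]
    _ = c' * a * conjE n c := by rw [conjE_mul, conjE_mul, hna, hf]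
    _ = c' * (a * c') := by rw [mul_assoc, he]
    _ = c' := by rw [← mul_assoc, h'.czc]

end CfsgLib.PLocal.CoprimeQuad
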